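import Mathlib.RingTheory.Ideal.KrullsHeightTheorem
import Mathlib.RingTheory.IntegralClosure.IntegrallyClosed
import Mathlib.RingTheory.Ideal.AssociatedPrime.Basic
import Mathlib.RingTheory.Ideal.MinimalPrime.Noetherian
import Mathlib.RingTheory.IntegralClosure.IsIntegral.Basic
import Mathlib.RingTheory.FiniteType
import Mathlib.RingTheory.Localization.FractionRing

/-!
# Normal Noetherian domains are intersections of their localisations at height one primes

* `mem_range_of_forall_height_one`: the Hartogs property.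
* `finite_height_one_mem`: finitely many height one primes contain a given nonzero element.
-/

universe u v

namespace Groth.Agent.Ref1

variable {A : Type u} [CommRing A] [IsDomain A] [IsNoetherianRing A]

/-- In a normal Noetherian domain the prime `((a) : c)` has height one. -/
theorem height_eq_one_of_colon_isPrime [IsIntegrallyClosed A] {a c : A} (ha : a ≠ 0)
    {P : Ideal A} [P.IsPrime] (hP : ∀ p, p ∈ P ↔ a ∣ p * c) : P.height = 1 := by
  let K := FractionRing A
  have haK : algebraMap A K a ≠ 0 := by simpa using ha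
  let y : K := algebraMap A K c / algebraMap A K a
  have hmul : ∀ p ∈ P, ∃ q : A, y * algebraMap A K p = algebraMap A K q := by
    intro p hp
    obtain ⟨q, hq⟩ := (hP p).mp hp
    exact ⟨q, by rw [div_mul_eq_mul_div, div_eq_iff haK, ← map_mul, ← map_mul, mul_comm c, hq, mul_comm]⟩
  choose q hq using hmul
  have haP : a ∈ P := (hP a).mpr (dvd_mul_right a c)
  by_cases hcase : ∀ p (hp : p ∈ P), q p hp ∈ P
  · exfalso
    have hint : IsIntegral A y := by
      refine isIntegral_of_smul_mem_submodule (M := K) (Submodule.map (Algebra.linearMap A K) P) ?_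
        ((IsNoetherian.noetherian _).map _) y ?_
      · rw [Submodule.ne_bot_iff]
        exact ⟨_, Submodule.mem_map_of_mem haP, haK⟩
      · rintro _ ⟨p, hp, rfl⟩
        exact ⟨q p hp, hcase p hp, by simp only [Algebra.linearMap_apply, smul_eq_mul, hq p hp]⟩
    obtain ⟨d, hd⟩ := (isIntegrallyClosed_iff K).mp inferInstance hint
    refine Ideal.IsPrime.ne_top ‹P.IsPrime› ((Ideal.eq_top_iff_one P).mpr ((hP 1).mpr ⟨d, ?_⟩))
    apply IsFractionRing.injective A K
    rw [one_mul, map_mul, hd, mul_div_cancel₀ _ haK]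
  · push Not at hcase
    obtain ⟨p₀, hp₀, hu⟩ := hcase
    have hmin : P ∈ (Ideal.span {p₀}).minimalPrimes := by
      refine ⟨⟨‹_›, (Ideal.span_singleton_le_iff_mem _).mpr hp₀⟩, fun Q hQ hQP p hp => ?_⟩
      have := hQ.1
      have he : p₀ * q p hp = p * q p₀ hp₀ := by
        apply IsFractionRing.injective A K
        rw [map_mul, map_mul, ← hq p hp, ← hq p₀ hp₀]
        ring
      have hpQ : p * q p₀ hp₀ ∈ Q := by
        rw [← he]
        exact Ideal.mul_mem_right _ _ (hQ.2 (Ideal.mem_span_singleton_self p₀))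
      exact (hQ.1.mem_or_mem hpQ).resolve_right fun h => hu (hQP h)
    refine le_antisymm (Ideal.height_le_one_of_isPrincipal_of_mem_minimalPrimes _ P hmin) ?_
    rw [Order.one_le_iff_pos, pos_iff_ne_zero, Ne, Ideal.height_eq_zero_iff]
    intro h
    rw [IsDomain.minimalPrimes_eq_singleton_bot, Set.mem_singleton_iff] at h
    rw [h, Submodule.mem_bot] at haP
    exact ha haP

/-- An element of the fraction field regular at all height one primes is regular. -/
theorem mem_range_of_forall_height_one [IsIntegrallyClosed A] {K : Type v} [Field K] [Algebra A K]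
    [IsFractionRing A K] (v : K)
    (h : ∀ p : Ideal A, p.IsPrime → p.height = 1 →
      ∃ s t : A, s ∉ p ∧ algebraMap A K s * v = algebraMap A K t) :
    v ∈ Set.range (algebraMap A K) := by
  obtain ⟨b, a, ha, rfl⟩ := IsFractionRing.div_surjective (A := A) v
  have ha0 : a ≠ 0 := nonZeroDivisors.ne_zero ha
  have haK : algebraMap A K a ≠ 0 := by simpa using ha0
  suffices hb : a ∣ b by
    obtain ⟨t, rfl⟩ := hb
    exact ⟨t, by rw [map_mul, mul_div_cancel_left₀ _ haK]⟩
  by_contra hb
  have hne : Ideal.Quotient.mk (Ideal.span {a}) b ≠ 0 := by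
    rwa [Ne, Ideal.Quotient.eq_zero_iff_mem, Ideal.mem_span_singleton]
  obtain ⟨P, hP, hle⟩ :=
    exists_le_isAssociatedPrime_of_isNoetherianRing A (M := A ⧸ Ideal.span {a}) _ hne
  obtain ⟨hPp, z, hz⟩ := isAssociatedPrime_iff.mp hP
  have := hPp
  obtain ⟨c, rfl⟩ := Ideal.Quotient.mk_surjective z
  have hcolon : ∀ (p : A) (x : A), p ∈ (⊥ : Submodule A (A ⧸ Ideal.span {a})).colon
      {Ideal.Quotient.mk (Ideal.span {a}) x} ↔ a ∣ p * x := by
    intro p x
    rw [Submodule.mem_colon_singleton, Submodule.mem_bot, Algebra.smul_def,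
      Ideal.Quotient.algebraMap_eq, ← map_mul, Ideal.Quotient.eq_zero_iff_mem,
      Ideal.mem_span_singleton]
  obtain ⟨s, t, hs, hst⟩ := h P hPp
    (height_eq_one_of_colon_isPrime ha0 (c := c) fun p => by rw [hz, hcolon])
  refine hs (hle ((hcolon s b).mpr ⟨t, ?_⟩))
  apply IsFractionRing.injective A K
  rw [map_mul, map_mul, ← hst]
  field_simp

/-- Finitely many height one primes contain a given nonzero element. -/
theorem finite_height_one_mem {a : A} (ha : a ≠ 0) :
    {p : Ideal A | p.IsPrime ∧ p.height = 1 ∧ a ∈ p}.Finite := by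
  refine (Ideal.finite_minimalPrimes_of_isNoetherianRing A (Ideal.span {a})).subset ?_
  rintro p ⟨hp, h1, hap⟩
  refine ⟨⟨hp, (Ideal.span_singleton_le_iff_mem _).mpr hap⟩, fun q hq hqp => ?_⟩
  by_contra hne
  have := hp
  have := hq.1
  have hlt : q < p := lt_of_le_of_ne hqp fun e => hne e.ge
  have h0 : q.height < p.height := Ideal.height_strict_mono_of_isPrime hlt
  rw [h1, Order.lt_one_iff, Ideal.height_eq_zero_iff,
    IsDomain.minimalPrimes_eq_singleton_bot, Set.mem_singleton_iff] at h0
  exact ha (by simpa [h0] using hq.2 (Ideal.mem_span_singleton_self a))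

end Groth.Agent.Ref1
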