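import Mathlib.AlgebraicGeometry.OrderOfVanishing
import Mathlib.AlgebraicGeometry.FunctionField
import Mathlib.RingTheory.DiscreteValuationRing.TFAE
import Groth.Prelude.Def_Pi1
import Groth.Agent.InvExtend.Integral
import Groth.Agent.Ref1.Algebra

/-!
# Codimension one points of normal schemes and the order of vanishing

* `gsp x`: the generic point specializes to `x`; `algebraMap_germ`, `algebraMap_specializes`.
* `isDVR`: the local ring at a codimension one point of a normal scheme is a DVR.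
* `mem_range_of_forall_coheight_one`: Hartogs for rational functions.
* `ord` API: `ord_inv`, `ord_one`, `ord_algebraMap_nonneg`, `mem_range_of_ord_nonneg`, `exists_ord_eq`.
* `finite_ord_ne_zero`: local finiteness of the divisor of a rational function.
-/

universe u

open CategoryTheory AlgebraicGeometry TopologicalSpace Order

namespace Groth.Agent.Ref1

variable {X : Scheme.{u}} [IsIntegral X]

/-- The generic point specializes to every point. -/
theorem gsp (x : X) : genericPoint ↥X ⤳ x := (genericPoint_spec ↥X).specializes trivial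

theorem eta_mem {U : X.Opens} {x : X} (hx : x ∈ U) : genericPoint ↥X ∈ U :=
  (gsp x).mem_open U.2 hx

theorem algebraMap_stalk_apply (x : X) (a : X.presheaf.stalk x) :
    algebraMap (X.presheaf.stalk x) X.functionField a = X.presheaf.stalkSpecializes (gsp x) a := rfl

theorem algebraMap_germ {U : X.Opens} {x : X} (hx : x ∈ U) (r : Γ(X, U)) :
    algebraMap (X.presheaf.stalk x) X.functionField (X.presheaf.germ U x hx r) =
      X.presheaf.germ U (genericPoint ↥X) (eta_mem hx) r :=
  X.presheaf.germ_stalkSpecializes_apply hx (gsp x) r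

theorem algebraMap_specializes {y x : X} (h : y ⤳ x) (a : X.presheaf.stalk x) :
    algebraMap (X.presheaf.stalk y) X.functionField (X.presheaf.stalkSpecializes h a) =
      algebraMap (X.presheaf.stalk x) X.functionField a := by
  obtain ⟨U, hx, r, rfl⟩ := X.presheaf.exists_germ_eq a
  rw [X.presheaf.germ_stalkSpecializes_apply, algebraMap_germ, algebraMap_germ]

theorem algebraMap_stalk_injective (x : X) :
    Function.Injective (algebraMap (X.presheaf.stalk x) X.functionField) :=
  IsFractionRing.injective _ _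

variable [IsLocallyNoetherian X]

/-- The local ring at a codimension one point of a normal scheme is a DVR. -/
theorem isDVR (hX : Pi1.IsNormalScheme X) {y : X} (hy : coheight y = 1) :
    IsDiscreteValuationRing (X.presheaf.stalk y) := by
  have := (hX y).2
  have : Ring.KrullDimLE 1 (X.presheaf.stalk y) := krullDimLE_of_coheight_le hy.le
  have hnf : ¬ IsField (X.presheaf.stalk y) := fun h => by
    have h0 := ringKrullDim_eq_zero_of_isField h
    rw [ringKrullDim_stalk_eq_coheight, hy] at h0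
    exact one_ne_zero (α := WithBot ℕ∞) (by exact_mod_cast h0)
  refine ((IsDiscreteValuationRing.TFAE _ hnf).out 3 0 rfl rfl).mp
    ⟨inferInstance, IsLocalRing.maximalIdeal _, ⟨?_, inferInstance⟩, fun P hP => ?_⟩
  · exact fun h => hnf (IsLocalRing.isField_iff_maximalIdeal_eq.mpr h)
  · have := hP.2
    exact IsLocalRing.eq_maximalIdeal (hP.2.isMaximal_of_ne_bot hP.1)

/-- Hartogs: a rational function regular at all codimension one generisations of `x` is regular at `x`. -/
theorem mem_range_of_forall_coheight_one (hX : Pi1.IsNormalScheme X) (x : X) (v : X.functionField)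
    (h : ∀ y : X, y ⤳ x → coheight y = 1 →
      v ∈ Set.range (algebraMap (X.presheaf.stalk y) X.functionField)) :
    v ∈ Set.range (algebraMap (X.presheaf.stalk x) X.functionField) := by
  have := (hX x).2
  refine mem_range_of_forall_height_one v fun p hp hp1 => ?_
  obtain ⟨W, hW, hxW, -⟩ := exists_isAffineOpen_mem_and_subset (X := X) (x := x) (U := ⊤) trivial
  let _ : Algebra Γ(X, W) (X.presheaf.stalk x) := (X.presheaf.germ W x hxW).hom.toAlgebra
  have hloc : IsLocalization.AtPrime (X.presheaf.stalk x) (hW.primeIdealOf ⟨x, hxW⟩).asIdeal :=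
    hW.isLocalization_stalk ⟨x, hxW⟩
  have hle : p.comap (X.presheaf.germ W x hxW).hom ≤ (hW.primeIdealOf ⟨x, hxW⟩).asIdeal := by
    intro r hr
    by_contra hr'
    exact hp.ne_top (Ideal.eq_top_of_isUnit_mem _ hr
      ((X.mem_basicOpen r x hxW).mp ((InvExtend.mem_basicOpen_iff hW hxW r).mpr hr')))
  let q : PrimeSpectrum Γ(X, W) := ⟨p.comap (X.presheaf.germ W x hxW).hom, Ideal.IsPrime.comap _⟩
  let y : X := InvExtend.pt hW q
  have hyW : y ∈ W := InvExtend.pt_mem hW q
  have hyx : y ⤳ x := by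
    rw [InvExtend.specializes_iff hW hxW hyW, InvExtend.primeIdealOf_pt]
    exact hle
  have hy1 : coheight y = 1 := by
    let _ : Algebra Γ(X, W) (X.presheaf.stalk y) := (X.presheaf.germ W y hyW).hom.toAlgebra
    have hlocy : IsLocalization.AtPrime (X.presheaf.stalk y) (hW.primeIdealOf ⟨y, hyW⟩).asIdeal :=
      hW.isLocalization_stalk ⟨y, hyW⟩
    have e := IsLocalization.AtPrime.ringKrullDim_eq_height (hW.primeIdealOf ⟨y, hyW⟩).asIdeal
      (X.presheaf.stalk y)
    rw [ringKrullDim_stalk_eq_coheight, InvExtend.primeIdealOf_pt] at e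
    have e2 : q.asIdeal.height = p.height :=
      IsLocalization.height_under (A := X.presheaf.stalk x)
        (hW.primeIdealOf ⟨x, hxW⟩).asIdeal.primeCompl p
    rw [e2, hp1] at e
    exact_mod_cast e
  obtain ⟨a, rfl⟩ := h y hyx hy1
  obtain ⟨f, s, hyf, hfs⟩ : ∃ f s : Γ(X, W), y ∈ X.basicOpen f ∧
      X.presheaf.germ W y hyW f * a = X.presheaf.germ W y hyW s := by
    let _ : Algebra Γ(X, W) (X.presheaf.stalk y) := (X.presheaf.germ W y hyW).hom.toAlgebra
    have hlocy : IsLocalization.AtPrime (X.presheaf.stalk y) (hW.primeIdealOf ⟨y, hyW⟩).asIdeal :=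
      hW.isLocalization_stalk ⟨y, hyW⟩
    obtain ⟨⟨s, f⟩, e⟩ := IsLocalization.surj (hW.primeIdealOf ⟨y, hyW⟩).asIdeal.primeCompl a
    exact ⟨f.1, s, (InvExtend.mem_basicOpen_iff hW hyW f.1).mpr f.2, by rw [mul_comm]; exact e⟩
  refine ⟨X.presheaf.germ W x hxW f, X.presheaf.germ W x hxW s, ?_, ?_⟩
  · intro hfp
    have := (InvExtend.mem_basicOpen_iff hW hyW f).mp hyf
    rw [InvExtend.primeIdealOf_pt] at this
    exact this hfp
  · rw [algebraMap_germ, algebraMap_germ, ← algebraMap_germ hyW f, ← algebraMap_germ hyW s, ← hfs,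
      map_mul]

theorem ord_one (y : X) : Scheme.ord (1 : X.functionField) y = 0 := by
  have h := Scheme.ord_mul (x := y) (f := (1 : X.functionField)) (g := 1) one_ne_zero one_ne_zero
  rw [mul_one] at h
  omega

theorem ord_inv {y : X} {v : X.functionField} (hv : v ≠ 0) :
    Scheme.ord v⁻¹ y = - Scheme.ord v y := by
  have h := Scheme.ord_mul (x := y) hv (inv_ne_zero hv)
  rw [mul_inv_cancel₀ hv, ord_one] at h
  omega

theorem ord_div {y : X} {v w : X.functionField} (hv : v ≠ 0) (hw : w ≠ 0) :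
    Scheme.ord (v / w) y = Scheme.ord v y - Scheme.ord w y := by
  rw [div_eq_mul_inv, Scheme.ord_mul hv (inv_ne_zero hw), ord_inv hw, sub_eq_add_neg]

theorem ordHom_eq_ordFrac {y : X} (hy : coheight y = 1) (v : X.functionField)
    [Ring.KrullDimLE 1 (X.presheaf.stalk y)] :
    Scheme.ordHom y hy v = Ring.ordFrac (X.presheaf.stalk y) v := rfl

theorem ord_algebraMap_nonneg {y : X} {a : X.presheaf.stalk y} (ha : a ≠ 0) :
    0 ≤ Scheme.ord (algebraMap (X.presheaf.stalk y) X.functionField a) y := by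
  by_cases hy : coheight y = 1
  · have : Ring.KrullDimLE 1 (X.presheaf.stalk y) := krullDimLE_of_coheight_le hy.le
    rw [Scheme.le_ord_iff hy ((map_ne_zero_iff _ (algebraMap_stalk_injective y)).mpr ha),
      ofAdd_zero, WithZero.coe_one, ordHom_eq_ordFrac hy]
    exact Ring.ordFrac_ge_one_of_ne_zero ha
  · rw [Scheme.ord_eq_zero_of_coheight_neq_one hy]

theorem ord_algebraMap_of_isUnit {y : X} {a : X.presheaf.stalk y} (ha : IsUnit a) :
    Scheme.ord (algebraMap (X.presheaf.stalk y) X.functionField a) y = 0 := by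
  refine le_antisymm ?_ (ord_algebraMap_nonneg ha.ne_zero)
  obtain ⟨b, hb⟩ := ha.exists_right_inv
  have hb0 : b ≠ 0 := fun h => by simp [h] at hb
  have h := congrArg (algebraMap (X.presheaf.stalk y) X.functionField) hb
  rw [map_mul, map_one] at h
  have := Scheme.ord_mul (x := y) ((map_ne_zero_iff _ (algebraMap_stalk_injective y)).mpr ha.ne_zero)
    ((map_ne_zero_iff _ (algebraMap_stalk_injective y)).mpr hb0)
  rw [h, ord_one] at this
  have := ord_algebraMap_nonneg hb0
  omega

theorem exists_uniformizer (hX : Pi1.IsNormalScheme X) {y : X} (hy : coheight y = 1) :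
    ∃ ϖ : X.presheaf.stalk y, Irreducible ϖ ∧
      Scheme.ord (algebraMap (X.presheaf.stalk y) X.functionField ϖ) y = 1 := by
  have := isDVR hX hy
  have : Ring.KrullDimLE 1 (X.presheaf.stalk y) := krullDimLE_of_coheight_le hy.le
  obtain ⟨ϖ, hϖ⟩ := IsDiscreteValuationRing.exists_irreducible (X.presheaf.stalk y)
  refine ⟨ϖ, hϖ, ?_⟩
  rw [Scheme.ord_eq_iff hy ((map_ne_zero_iff _ (algebraMap_stalk_injective y)).mpr hϖ.ne_zero),
    ordHom_eq_ordFrac hy, Ring.ordFrac_irreducible hϖ]
  rfl

theorem ord_zpow {y : X} {v : X.functionField} (hv : v ≠ 0) (n : ℤ) :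
    Scheme.ord (v ^ n) y = n * Scheme.ord v y := by
  induction n with
  | zero => rw [zpow_zero, ord_one, zero_mul]
  | succ k ih => rw [zpow_add_one₀ hv, Scheme.ord_mul (zpow_ne_zero _ hv) hv, ih]; ring
  | pred k ih =>
    rw [zpow_sub_one₀ hv, Scheme.ord_mul (zpow_ne_zero _ hv) (inv_ne_zero hv), ih, ord_inv hv]
    ring

theorem exists_ord_eq (hX : Pi1.IsNormalScheme X) {y : X} (hy : coheight y = 1) (n : ℤ) :
    ∃ v : X.functionField, v ≠ 0 ∧ Scheme.ord v y = n := by
  obtain ⟨ϖ, hϖ, h1⟩ := exists_uniformizer hX hy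
  have hne := (map_ne_zero_iff _ (algebraMap_stalk_injective y)).mpr hϖ.ne_zero
  exact ⟨_, zpow_ne_zero n hne, by rw [ord_zpow hne, h1, mul_one]⟩

theorem mem_range_of_ord_nonneg (hX : Pi1.IsNormalScheme X) {y : X} (hy : coheight y = 1)
    {v : X.functionField} (hv : v ≠ 0) (h : 0 ≤ Scheme.ord v y) :
    v ∈ Set.range (algebraMap (X.presheaf.stalk y) X.functionField) := by
  have := isDVR hX hy
  obtain ⟨ϖ, hϖ, h1⟩ := exists_uniformizer hX hy
  have hne := (map_ne_zero_iff _ (algebraMap_stalk_injective y)).mpr hϖ.ne_zero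
  obtain ⟨a, b, hb, rfl⟩ := IsFractionRing.div_surjective (A := X.presheaf.stalk y) v
  have hb0 : b ≠ 0 := nonZeroDivisors.ne_zero hb
  have ha0 : a ≠ 0 := fun h => hv (by simp [h])
  obtain ⟨m, α, rfl⟩ := IsDiscreteValuationRing.eq_unit_mul_pow_irreducible ha0 hϖ
  obtain ⟨n, β, rfl⟩ := IsDiscreteValuationRing.eq_unit_mul_pow_irreducible hb0 hϖ
  have key : ∀ (γ : (X.presheaf.stalk y)ˣ) (k : ℕ),
      Scheme.ord (algebraMap _ X.functionField ((γ : X.presheaf.stalk y) * ϖ ^ k)) y = k := by
    intro γ k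
    rw [map_mul, map_pow, Scheme.ord_mul ((map_ne_zero_iff _ (algebraMap_stalk_injective y)).mpr γ.ne_zero)
      (pow_ne_zero _ hne), ord_algebraMap_of_isUnit γ.isUnit, ← zpow_natCast, ord_zpow hne, h1]
    ring
  rw [ord_div ((map_ne_zero_iff _ (algebraMap_stalk_injective y)).mpr ha0)
    ((map_ne_zero_iff _ (algebraMap_stalk_injective y)).mpr hb0), key, key] at h
  obtain ⟨j, rfl⟩ := Nat.exists_eq_add_of_le (show n ≤ m by omega)
  refine ⟨(α : X.presheaf.stalk y) * (β⁻¹ : (X.presheaf.stalk y)ˣ) * ϖ ^ j, ?_⟩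
  rw [eq_div_iff ((map_ne_zero_iff _ (algebraMap_stalk_injective y)).mpr hb0), ← map_mul]
  congr 1
  calc _ = (α : X.presheaf.stalk y) * ((β⁻¹ : (X.presheaf.stalk y)ˣ) * (β : X.presheaf.stalk y)) *
        ϖ ^ (n + j) := by rw [pow_add]; ring
    _ = _ := by rw [Units.inv_mul, mul_one]

theorem mem_range_iff_ord (hX : Pi1.IsNormalScheme X) (x : X) {v : X.functionField} (hv : v ≠ 0) :
    v ∈ Set.range (algebraMap (X.presheaf.stalk x) X.functionField) ↔
      ∀ y : X, y ⤳ x → coheight y = 1 → 0 ≤ Scheme.ord v y := by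
  refine ⟨?_, fun h => mem_range_of_forall_coheight_one hX x v fun y hyx hy =>
    mem_range_of_ord_nonneg hX hy hv (h y hyx hy)⟩
  rintro ⟨a, rfl⟩ y hyx -
  rw [← algebraMap_specializes hyx a]
  refine ord_algebraMap_nonneg fun h0 => hv ?_
  rw [← algebraMap_specializes hyx a, h0, map_zero]

/-- The divisor of a rational function is locally finite. -/
theorem finite_ord_ne_zero {W : X.Opens} (hW : IsAffineOpen W) (v : X.functionField) :
    {y : X | y ∈ W ∧ coheight y = 1 ∧ Scheme.ord v y ≠ 0}.Finite := by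
  by_cases hv : v = 0
  · refine Set.Finite.subset Set.finite_empty fun y hy => ?_
    exact (hy.2.2 (by rw [hv, Scheme.ord_zero]; rfl)).elim
  by_cases hne : Nonempty W
  swap
  · exact Set.Finite.subset Set.finite_empty fun y hy => (hne ⟨⟨y, hy.1⟩⟩).elim
  have := functionField_isFractionRing_of_isAffineOpen X W hW
  have hη : genericPoint ↥X ∈ W := eta_mem hne.some.2
  have : IsDomain Γ(X, W) := inferInstance
  have : IsNoetherianRing Γ(X, W) := IsLocallyNoetherian.component_noetherian ⟨W, hW⟩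
  obtain ⟨a, b, hb, rfl⟩ := IsFractionRing.div_surjective (A := Γ(X, W)) v
  have hb0 : b ≠ 0 := nonZeroDivisors.ne_zero hb
  have ha0 : a ≠ 0 := fun h => hv (by simp [h])
  classical
  let S : Γ(X, W) → Set X := fun c => {y : X | y ∈ W ∧ coheight y = 1 ∧
    ∀ hy : y ∈ W, c ∈ (hW.primeIdealOf ⟨y, hy⟩).asIdeal}
  have hfin : ∀ c : Γ(X, W), c ≠ 0 → (S c).Finite := by
    intro c hc
    refine Set.Finite.of_finite_image ((finite_height_one_mem hc).subset ?_)
      (f := fun y : X => if hy : y ∈ W then (hW.primeIdealOf ⟨y, hy⟩).asIdeal else ⊥) ?_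
    · rintro _ ⟨y, ⟨hyW, hy1, hyc⟩, rfl⟩
      beta_reduce
      rw [dif_pos hyW]
      refine ⟨inferInstance, ?_, hyc hyW⟩
      let _ : Algebra Γ(X, W) (X.presheaf.stalk y) := (X.presheaf.germ W y hyW).hom.toAlgebra
      have hlocy : IsLocalization.AtPrime (X.presheaf.stalk y) (hW.primeIdealOf ⟨y, hyW⟩).asIdeal :=
        hW.isLocalization_stalk ⟨y, hyW⟩
      have e := IsLocalization.AtPrime.ringKrullDim_eq_height (hW.primeIdealOf ⟨y, hyW⟩).asIdeal
        (X.presheaf.stalk y)
      rw [ringKrullDim_stalk_eq_coheight, hy1] at e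
      exact_mod_cast e.symm
    · intro y₁ h₁ y₂ h₂ he
      beta_reduce at he
      rw [dif_pos h₁.1, dif_pos h₂.1] at he
      have hk := congrArg hW.fromSpec (PrimeSpectrum.ext he)
      rwa [hW.fromSpec_primeIdealOf, hW.fromSpec_primeIdealOf] at hk
  refine ((hfin a ha0).union (hfin b hb0)).subset ?_
  rintro y ⟨hyW, hy1, hyord⟩
  by_contra hcon
  have ha : a ∉ (hW.primeIdealOf ⟨y, hyW⟩).asIdeal :=
    fun h => hcon (Or.inl ⟨hyW, hy1, fun _ => h⟩)
  have hb' : b ∉ (hW.primeIdealOf ⟨y, hyW⟩).asIdeal :=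
    fun h => hcon (Or.inr ⟨hyW, hy1, fun _ => h⟩)
  apply hyord
  have e : ∀ c : Γ(X, W), algebraMap Γ(X, W) X.functionField c =
      algebraMap (X.presheaf.stalk y) X.functionField (X.presheaf.germ W y hyW c) :=
    fun c => (algebraMap_germ hyW c).symm
  have hua : IsUnit (X.presheaf.germ W y hyW a) :=
    (X.mem_basicOpen a y hyW).mp ((InvExtend.mem_basicOpen_iff hW hyW a).mpr ha)
  have hub : IsUnit (X.presheaf.germ W y hyW b) :=
    (X.mem_basicOpen b y hyW).mp ((InvExtend.mem_basicOpen_iff hW hyW b).mpr hb')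
  rw [e a, e b, ord_div ((map_ne_zero_iff _ (algebraMap_stalk_injective y)).mpr hua.ne_zero)
    ((map_ne_zero_iff _ (algebraMap_stalk_injective y)).mpr hub.ne_zero),
    ord_algebraMap_of_isUnit hua, ord_algebraMap_of_isUnit hub, sub_zero]

end Groth.Agent.Ref1
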