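import Groth.Prelude.Def_RefHull
import Groth.Agent.QCohLib.StalkLoc
import Groth.Agent.Ref1.Points

/-!
# Stalks at the generic point; morphisms from stalk maps

* `sp F x : F_x →+ F_η` and its compatibilities;
* `exists_smul_eq_zero_of_sp_eq_zero`, `exists_sp_eq_smul` for quasi-coherent modules;
* `exists_unique_section_of_isLocSect`, `exists_hom_of_isLocSect`;
* the stalks of the structure module: `unit_stalk_exists`, `unit_stalk_free`.
-/

universe u

open CategoryTheory CategoryTheory.Limits AlgebraicGeometry TopologicalSpace Opposite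

set_option backward.isDefEq.respectTransparency false

namespace Groth.Agent.Ref1

variable {X : Scheme.{u}}

section Hom

variable {F G : X.Modules}

/-- An admissible family of stalk maps sends a section to a section. -/
theorem exists_unique_section_of_isLocSect {U : X.Opens}
    (e : ∀ x : U, RefHull.StalkHom F G x.1) (he : RefHull.IsLocSect F G e) (σ : Γ(F, U)) :
    ∃! τ : Γ(G, U), ∀ (y : X) (hy : y ∈ U),
      G.presheaf.germ U y hy τ = e ⟨y, hy⟩ (F.presheaf.germ U y hy σ) := by
  choose W hW j n hn using fun x : U => he U (𝟙 U) σ x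
  obtain ⟨τ, hτ, -⟩ := TopCat.Sheaf.existsUnique_gluing' ⟨G.presheaf, G.isSheaf⟩ W U j
    (fun y hy => Opens.mem_iSup.mpr ⟨⟨y, hy⟩, hW ⟨y, hy⟩⟩) n (fun a b => by
      refine QCohLib.section_ext _ _ fun y hy => ?_
      change G.presheaf.germ _ y hy (G.presheaf.map _ (n a)) =
        G.presheaf.germ _ y hy (G.presheaf.map _ (n b))
      rw [TopCat.Presheaf.germ_res_apply, TopCat.Presheaf.germ_res_apply]
      exact (hn a ⟨y, hy.1⟩).symm.trans (hn b ⟨y, hy.2⟩))
  refine ⟨τ, fun y hy => ?_, fun τ' hτ' => QCohLib.section_ext _ _ fun y hy => ?_⟩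
  · rw [hn ⟨y, hy⟩ ⟨y, hW ⟨y, hy⟩⟩,
      ← TopCat.Presheaf.germ_res_apply G.presheaf (j ⟨y, hy⟩) y (hW ⟨y, hy⟩) τ]
    exact congrArg (G.presheaf.germ _ y (hW ⟨y, hy⟩)) (hτ ⟨y, hy⟩)
  · rw [hτ' y hy, hn ⟨y, hy⟩ ⟨y, hW ⟨y, hy⟩⟩,
      ← TopCat.Presheaf.germ_res_apply G.presheaf (j ⟨y, hy⟩) y (hW ⟨y, hy⟩) τ]
    exact congrArg (G.presheaf.germ _ y (hW ⟨y, hy⟩)) (hτ ⟨y, hy⟩).symm

/-- A global admissible family of stalk maps is the family of stalk maps of a morphism. -/
theorem exists_hom_of_isLocSect (e : ∀ x : X, RefHull.StalkHom F G x)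
    (he : ∀ (U : X.Opens), RefHull.IsLocSect F G fun x : U => e x.1) :
    ∃ φ : F ⟶ G, ∀ (x : X) (m : F.presheaf.stalk x), QCohLib.stalkHom φ x m = e x m := by
  choose f hf huniq using fun (U : X.Opens) (σ : Γ(F, U)) =>
    exists_unique_section_of_isLocSect (fun x : U => e x.1) (he U) σ
  let fa : ∀ U : X.Opens, Γ(F, U) →+ Γ(G, U) := fun U =>
    AddMonoidHom.mk' (f U) fun a b => QCohLib.section_ext _ _ fun y hy => by
      rw [map_add, hf, hf, hf, map_add, map_add]
  let φ : F ⟶ G := ⟨PresheafOfModules.homMk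
    { app := fun U => AddCommGrpCat.ofHom (fa U.unop)
      naturality := fun {U V} i => by
        ext σ
        refine QCohLib.section_ext _ _ fun y hy => ?_
        change G.presheaf.germ _ y hy (f V.unop (F.presheaf.map i σ)) =
          G.presheaf.germ _ y hy (G.presheaf.map i (f U.unop σ))
        rw [hf, TopCat.Presheaf.germ_res_apply', TopCat.Presheaf.germ_res_apply', hf] }
    (fun U r σ => QCohLib.section_ext _ _ fun y hy => by
      change G.presheaf.germ U.unop y hy (f U.unop ((show Γ(X, U.unop) from r) • (show Γ(F, U.unop) from σ))) =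
        G.presheaf.germ U.unop y hy ((show Γ(X, U.unop) from r) • f U.unop σ)
      rw [hf, QCohLib.germ_smul, QCohLib.germ_smul, map_smul, hf])⟩
  refine ⟨φ, fun x m => ?_⟩
  obtain ⟨U, hx, σ, rfl⟩ := F.presheaf.exists_germ_eq m
  rw [QCohLib.stalkHom_germ]
  exact hf U σ x hx

/-- A global admissible family of bijective stalk maps gives an isomorphism. -/
theorem exists_iso_of_isLocSect (e : ∀ x : X, RefHull.StalkHom F G x)
    (he : ∀ (U : X.Opens), RefHull.IsLocSect F G fun x : U => e x.1)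
    (hb : ∀ x, Function.Bijective (e x)) : Nonempty (F ≅ G) := by
  obtain ⟨φ, hφ⟩ := exists_hom_of_isLocSect e he
  have : IsIso φ := (QCohLib.isIso_iff_stalk_bijective φ).mpr fun x => by
    rw [show ⇑(QCohLib.stalkHom φ x) = e x from funext (hφ x)]
    exact hb x
  exact ⟨asIso φ⟩

end Hom

/-! ### The structure module -/

/-- The germ of `1` in the stalk of the structure module. -/
noncomputable def one (x : X) : (Coh.structureModule X).presheaf.stalk x :=
  (Coh.structureModule X).presheaf.germ ⊤ x trivial (show Γ(X, ⊤) from 1)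

theorem germ_unit (x : X) {U : X.Opens} (hx : x ∈ U) (r : Γ(X, U)) :
    (Coh.structureModule X).presheaf.germ U x hx r = X.presheaf.germ U x hx r • one x := by
  have h : (show Γ(Coh.structureModule X, U) from r) = r •
      ((Coh.structureModule X).presheaf.map (homOfLE (le_top : U ≤ ⊤)).op (show Γ(X, ⊤) from 1)) := by
    change (show Γ(X, U) from r) = (show Γ(X, U) from r) * X.presheaf.map (homOfLE le_top).op 1
    rw [map_one, mul_one]
  refine (congrArg _ h).trans ?_
  rw [QCohLib.germ_smul, TopCat.Presheaf.germ_res_apply]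
  rfl

theorem unit_stalk_exists (x : X) (w : (Coh.structureModule X).presheaf.stalk x) :
    ∃ a : X.presheaf.stalk x, w = a • one x := by
  obtain ⟨U, hx, r, rfl⟩ := (Coh.structureModule X).presheaf.exists_germ_eq w
  exact ⟨_, germ_unit x hx r⟩

theorem unit_stalk_free (x : X) (a : X.presheaf.stalk x) (h : a • one x = 0) : a = 0 := by
  obtain ⟨U, hx, r, rfl⟩ := X.presheaf.exists_germ_eq a
  rw [← germ_unit x hx r] at h
  obtain ⟨V, hxV, i, _i', e⟩ := (Coh.structureModule X).presheaf.germ_eq x hx hx r 0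
    (by rw [h, map_zero])
  rw [map_zero] at e
  have e' : X.presheaf.map i.op r = 0 := e
  rw [← TopCat.Presheaf.germ_res_apply X.presheaf i x hxV r, e', map_zero]

theorem unit_stalk_bijective (x : X) :
    Function.Bijective fun a : X.presheaf.stalk x => a • one x :=
  ⟨fun a b h => sub_eq_zero.mp (unit_stalk_free x _ (by rw [sub_smul]; exact sub_eq_zero.mpr h)),
    fun w => (unit_stalk_exists x w).imp fun _ h => h.symm⟩

/-! ### Stalks at the generic point -/

variable [IsIntegral X] (F : X.Modules)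

/-- The map from a stalk to the stalk at the generic point. -/
noncomputable def sp (x : X) : F.presheaf.stalk x →+ F.presheaf.stalk (genericPoint ↥X) :=
  (F.presheaf.stalkSpecializes (gsp x)).hom

theorem sp_germ {U : X.Opens} (x : X) (hx : x ∈ U) (m : Γ(F, U)) :
    sp F x (F.presheaf.germ U x hx m) = F.presheaf.germ U (genericPoint ↥X) (eta_mem hx) m :=
  F.presheaf.germ_stalkSpecializes_apply hx (gsp x) m

theorem sp_smul (x : X) (a : X.presheaf.stalk x) (m : F.presheaf.stalk x) :
    sp F x (a • m) = algebraMap (X.presheaf.stalk x) X.functionField a • sp F x m := by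
  obtain ⟨U, hxU, r, rfl⟩ := X.presheaf.exists_germ_eq a
  obtain ⟨V, hxV, s, rfl⟩ := F.presheaf.exists_germ_eq m
  rw [← TopCat.Presheaf.germ_res_apply X.presheaf (homOfLE (inf_le_left : U ⊓ V ≤ U)) x ⟨hxU, hxV⟩,
    ← TopCat.Presheaf.germ_res_apply F.presheaf (homOfLE (inf_le_right : U ⊓ V ≤ V)) x ⟨hxU, hxV⟩,
    ← QCohLib.germ_smul, sp_germ, sp_germ, algebraMap_germ, QCohLib.germ_smul]

theorem sp_specializes {y x : X} (h : y ⤳ x) (m : F.presheaf.stalk x) :
    sp F y (F.presheaf.stalkSpecializes h m) = sp F x m := by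
  obtain ⟨U, hx, s, rfl⟩ := F.presheaf.exists_germ_eq m
  rw [F.presheaf.germ_stalkSpecializes_apply, sp_germ, sp_germ]

theorem sp_generic (z : F.presheaf.stalk (genericPoint ↥X)) : sp F (genericPoint ↥X) z = z := by
  obtain ⟨U, hx, s, rfl⟩ := F.presheaf.exists_germ_eq z
  rw [sp_germ]

theorem sp_stalkHom {F G : X.Modules} (φ : F ⟶ G) (x : X) (m : F.presheaf.stalk x) :
    sp G x (QCohLib.stalkHom φ x m) = QCohLib.stalkHom φ (genericPoint ↥X) (sp F x m) := by
  obtain ⟨U, hx, s, rfl⟩ := F.presheaf.exists_germ_eq m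
  rw [QCohLib.stalkHom_germ, sp_germ, sp_germ, QCohLib.stalkHom_germ]

/-- In a quasi-coherent module the elements vanishing at the generic point are torsion. -/
theorem exists_smul_eq_zero_of_sp_eq_zero [F.IsQuasicoherent] (x : X) (m : F.presheaf.stalk x)
    (h : sp F x m = 0) : ∃ a : X.presheaf.stalk x, a ≠ 0 ∧ a • m = 0 := by
  obtain ⟨W, hW, hxW, -⟩ := exists_isAffineOpen_mem_and_subset (X := X) (x := x) (U := ⊤) trivial
  obtain ⟨f, s, hxf, hfs⟩ := QCohLib.exists_smul_eq_germ hW x hxW m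
  have h0 : F.presheaf.germ W (genericPoint ↥X) (eta_mem hxW) s = 0 := by
    rw [← sp_germ F x hxW s, ← hfs, sp_smul, h, smul_zero]
  obtain ⟨g, hηg, hgs⟩ := (QCohLib.germ_eq_zero_iff hW _ (eta_mem hxW) s).mp h0
  have hg : g ≠ 0 := fun e => by
    have := (X.mem_basicOpen g _ (eta_mem hxW)).mp hηg
    rw [e, map_zero] at this
    exact not_isUnit_zero this
  refine ⟨X.presheaf.germ W x hxW g * X.presheaf.germ W x hxW f, mul_ne_zero ?_ ?_, ?_⟩
  · exact (map_ne_zero_iff _ (germ_injective_of_isIntegral X x hxW)).mpr hg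
  · exact ((X.mem_basicOpen f x hxW).mp hxf).ne_zero
  · rw [mul_smul, hfs, ← QCohLib.germ_smul, hgs, map_zero]

/-- Elements at the generic point are, up to a nonzero scalar, in any stalk. -/
theorem exists_sp_eq_smul [F.IsQuasicoherent] (x : X) (z : F.presheaf.stalk (genericPoint ↥X)) :
    ∃ (a : X.presheaf.stalk x) (m : F.presheaf.stalk x), a ≠ 0 ∧
      sp F x m = algebraMap (X.presheaf.stalk x) X.functionField a • z := by
  obtain ⟨W, hW, hxW, -⟩ := exists_isAffineOpen_mem_and_subset (X := X) (x := x) (U := ⊤) trivial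
  obtain ⟨f, s, hf, hfs⟩ := QCohLib.exists_smul_eq_germ hW _ (eta_mem hxW) z
  refine ⟨X.presheaf.germ W x hxW f, F.presheaf.germ W x hxW s, ?_, ?_⟩
  · refine (map_ne_zero_iff _ (germ_injective_of_isIntegral X x hxW)).mpr fun e => ?_
    have := (X.mem_basicOpen f _ (eta_mem hxW)).mp hf
    rw [e, map_zero] at this
    exact not_isUnit_zero this
  · rw [sp_germ, algebraMap_germ, hfs]

theorem sp_one (x : X) : sp (Coh.structureModule X) x (one x) = one (genericPoint ↥X) :=
  sp_germ (U := ⊤) _ x trivial _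

/-- Evaluation of a germ of the sheaf Hom commutes with going to the generic point. -/
theorem evalStalk_sp (G : X.Modules) (x : X) (θ : (RefHull.homSh F G).presheaf.stalk x)
    (m : F.presheaf.stalk x) :
    RefHull.evalStalk F G (genericPoint ↥X) (sp (RefHull.homSh F G) x θ) (sp F x m) =
      sp G x (RefHull.evalStalk F G x θ m) := by
  obtain ⟨U, hxU, g, rfl⟩ := (RefHull.homSh F G).presheaf.exists_germ_eq θ
  obtain ⟨V, hxV, s, rfl⟩ := F.presheaf.exists_germ_eq m
  rw [← TopCat.Presheaf.germ_res_apply F.presheaf (homOfLE (inf_le_right : U ⊓ V ≤ V)) x ⟨hxU, hxV⟩]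
  obtain ⟨W, hxW, j, n, hn⟩ := RefHull.isLocSect_of_mem g (U ⊓ V) (homOfLE inf_le_left)
    (F.presheaf.map (homOfLE inf_le_right).op s) ⟨x, hxU, hxV⟩
  rw [sp_germ, sp_germ, RefHull.evalStalk_germ, RefHull.evalStalk_germ]
  refine (hn ⟨_, eta_mem hxW⟩).trans ?_
  rw [← sp_germ G x hxW n]
  exact congrArg (sp G x) (hn ⟨x, hxW⟩).symm

end Groth.Agent.Ref1
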