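import Groth.Agent.QCohLib.StalkLoc

/-!
# A finite type module is generated near every point by finitely many sections
-/

universe u

open CategoryTheory CategoryTheory.Limits AlgebraicGeometry TopologicalSpace Opposite SheafOfModules

set_option backward.isDefEq.respectTransparency false

namespace Groth.Agent.Ref1

variable {X : Scheme.{u}}

/-- The finite free sheaf of modules, as an `O_X`-module. -/
noncomputable abbrev freeMod (W : Scheme.{u}) (I : Type u) : W.Modules := free (R := W.ringCatSheaf) I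

/-- Its basis sections. -/
noncomputable def freeIn (W : Scheme.{u}) {I : Type u} (k : I) : QCohLib.unitMod W ⟶ freeMod W I :=
  ιFree k

/-- Coordinate projection of a finite free sheaf of modules. -/
noncomputable def freePr (W : Scheme.{u}) {I : Type u} [DecidableEq I] (k : I) :
    freeMod W I ⟶ QCohLib.unitMod W :=
  Cofan.IsColimit.desc (isColimitFreeCofan I) fun j => if j = k then 𝟙 _ else 0

theorem freeIn_freePr (W : Scheme.{u}) {I : Type u} [DecidableEq I] (j k : I) :
    freeIn W j ≫ freePr W k = if j = k then 𝟙 _ else 0 :=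
  Cofan.IsColimit.fac (isColimitFreeCofan (R := W.ringCatSheaf) I) _ j

theorem free_hom_ext {W : Scheme.{u}} {I : Type u} {M : W.Modules} (f g : freeMod W I ⟶ M)
    (h : ∀ j, freeIn W j ≫ f = freeIn W j ≫ g) : f = g :=
  Cofan.IsColimit.hom_ext (isColimitFreeCofan (R := W.ringCatSheaf) I) f g h

theorem freePr_total (W : Scheme.{u}) (I : Type u) [Fintype I] [DecidableEq I] :
    ∑ k : I, freePr W k ≫ freeIn W k = 𝟙 (freeMod W I) := by
  refine free_hom_ext _ _ fun j => ?_
  rw [Preadditive.comp_sum, Category.comp_id, Finset.sum_eq_single j]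
  · rw [← Category.assoc, freeIn_freePr, if_pos rfl, Category.id_comp]
  · intro k _ hk
    rw [← Category.assoc, freeIn_freePr, if_neg (Ne.symm hk), zero_comp]
  · exact fun h => absurd (Finset.mem_univ j) h

/-- Applying a finite sum of morphisms to a section. -/
theorem sum_app_apply {M N : X.Modules} {I : Type*} (s : Finset I) (φ : I → (M ⟶ N)) (V : X.Opens)
    (z : Γ(M, V)) : (∑ k ∈ s, φ k).app V z = ∑ k ∈ s, (φ k).app V z := by
  classical
  induction s using Finset.induction_on with
  | empty => rw [Finset.sum_empty, Finset.sum_empty, Scheme.Modules.Hom.zero_app]; rfl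
  | insert a s ha ih =>
    rw [Finset.sum_insert ha, Finset.sum_insert ha, Scheme.Modules.Hom.add_app, ← ih]; rfl

/-- A section of a morphism from the structure sheaf is a multiple of the image of one. -/
theorem unit_app_eq_smul {M : X.Modules} (φ : QCohLib.unitMod X ⟶ M) {V W : X.Opens} (h : W ≤ V)
    (r : Γ(QCohLib.unitMod X, W)) :
    φ.app W r = (show Γ(X, W) from r) •
      M.presheaf.map (homOfLE h).op (φ.app V (show Γ(X, V) from 1)) := by
  have h1 := QCohLib.app_map φ h (show Γ(X, V) from 1)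
  rw [← h1]
  refine Eq.trans ?_ (Scheme.Modules.Hom.app_smul φ (show Γ(X, W) from r)
    ((QCohLib.unitMod X).presheaf.map (homOfLE h).op (show Γ(X, V) from 1)))
  refine congrArg (φ.app W) ?_
  change (show Γ(X, W) from r) = (show Γ(X, W) from r) * X.presheaf.map (homOfLE h).op 1
  rw [map_one, mul_one]

/-- A morphism out of a finite free module on sections. -/
theorem free_app_eq_sum {W : Scheme.{u}} {I : Type u} [Fintype I] [DecidableEq I] {M : W.Modules}
    (π : freeMod W I ⟶ M) {V : W.Opens} (z : Γ(freeMod W I, V)) :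
    π.app V z = ∑ k : I, (show Γ(W, V) from (freePr W k).app V z) •
      M.presheaf.map (homOfLE (le_top : V ≤ ⊤)).op
        ((freeIn W k ≫ π).app ⊤ (show Γ(W, ⊤) from 1)) := by
  have e : (∑ k : I, freePr W k ≫ (freeIn W k ≫ π)) = π := by
    simp only [← Category.assoc]
    rw [← Preadditive.sum_comp, freePr_total, Category.id_comp]
  conv_lhs => rw [← e]
  rw [sum_app_apply]
  refine Finset.sum_congr rfl fun k _ => ?_
  rw [Scheme.Modules.Hom.comp_app]
  exact unit_app_eq_smul (freeIn W k ≫ π) (le_top : V ≤ ⊤) _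

/-- Scalar multiplication in a restriction. -/
theorem restrict_smul_eq {Y : Scheme.{u}} (f : Y ⟶ X) [IsOpenImmersion f] (F : X.Modules)
    (V : Y.Opens) (r : Γ(Y, V)) (m : Γ(F.restrict f, V)) :
    (show Γ(F, f ''ᵁ V) from r • m) = (f.appIso V).inv r • (show Γ(F, f ''ᵁ V) from m) :=
  ConcreteCategory.congr_hom (Scheme.Modules.smul_restrictAppIso_hom (f := f) F V r) m

/-- Germs of a combination of sections of a restriction lie in the span. -/
theorem germ_mem_span_of_sum {Y : Scheme.{u}} (f : Y ⟶ X) [IsOpenImmersion f] (F : X.Modules)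
    {κ : Type u} [Fintype κ] {V V₀ : Y.Opens} (h : V ≤ V₀) (t : κ → Γ(F.restrict f, V₀))
    (r : κ → Γ(Y, V)) (w : Y) (hw : w ∈ V) (s : Γ(F.restrict f, V))
    (hs : s = ∑ k, r k • (F.restrict f).presheaf.map (homOfLE h).op (t k)) :
    F.presheaf.germ (f ''ᵁ V) (f w) ⟨w, hw, rfl⟩ (show Γ(F, f ''ᵁ V) from s) ∈
      Submodule.span (X.presheaf.stalk (f w))
        (Set.range fun k => F.presheaf.germ (f ''ᵁ V₀) (f w) ⟨w, h hw, rfl⟩ (t k)) := by
  subst hs
  have e : (show Γ(F, f ''ᵁ V) from ∑ k, r k • (F.restrict f).presheaf.map (homOfLE h).op (t k)) =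
      ∑ k, (f.appIso V).inv (r k) •
        F.presheaf.map (homOfLE (f.image_mono h)).op (show Γ(F, f ''ᵁ V₀) from t k) :=
    Finset.sum_congr rfl fun k _ => restrict_smul_eq f F V _ _
  rw [e, map_sum]
  refine Submodule.sum_mem _ fun k _ => ?_
  rw [QCohLib.germ_smul, TopCat.Presheaf.germ_res_apply]
  exact Submodule.smul_mem _ _ (Submodule.subset_span ⟨k, rfl⟩)

/-- Germs of restricted sections. -/
theorem germ_restrict_res {Y : Scheme.{u}} (f : Y ⟶ X) [IsOpenImmersion f] (F : X.Modules)
    {V : Y.Opens} {Q : X.Opens} (h : V ≤ f ⁻¹ᵁ Q) (w : Y) (hw : w ∈ V) (s : Γ(F, Q)) :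
    F.presheaf.germ (f ''ᵁ V) (f w) ⟨w, hw, rfl⟩
      (show Γ(F, f ''ᵁ V) from (F.restrict f).presheaf.map (homOfLE h).op
        (show Γ(F.restrict f, f ⁻¹ᵁ Q) from
          F.presheaf.map (homOfLE (f.image_preimage_le Q)).op s)) =
      F.presheaf.germ Q (f w) (h hw) s :=
  (congrArg _ (QCohLib.map_map F (f.image_mono h) (f.image_preimage_le Q) s)).trans
    (TopCat.Presheaf.germ_res_apply F.presheaf
      (homOfLE ((f.image_mono h).trans (f.image_preimage_le Q))) _ _ s)

/-- Near every point a module of finite type is generated by finitely many sections. -/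
theorem exists_nhds_generators {F : X.Modules} (hF : F.IsFiniteType) (x : X) :
    ∃ (V : X.Opens) (_ : x ∈ V) (κ : Type u) (_ : Finite κ) (t : κ → Γ(F, V)),
      ∀ (y : X) (hy : y ∈ V), Submodule.span (X.presheaf.stalk y)
        (Set.range fun k => F.presheaf.germ V y hy (t k)) = ⊤ := by
  classical
  obtain ⟨ι', W, σ, hW, hσ⟩ := QCohLib.exists_cover_generatingSections hF
  obtain ⟨i, hi⟩ := hW x
  have := hσ i
  let _ : Fintype (σ i).I := Fintype.ofFinite _
  let π' : freeMod (W i : Scheme.{u}) (σ i).I ⟶ F.restrict (W i).ι := (σ i).π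
  have hπ : Epi π' := (σ i).epi
  let t : (σ i).I → Γ(F.restrict (W i).ι, ⊤) := fun k =>
    (freeIn _ k ≫ π').app ⊤ (show Γ((W i : Scheme.{u}), ⊤) from 1)
  refine ⟨(W i).ι ''ᵁ ⊤, ⟨⟨x, hi⟩, trivial, rfl⟩, (σ i).I, inferInstance, t, fun y hy => ?_⟩
  rw [eq_top_iff]
  rintro m -
  obtain ⟨w, -, rfl⟩ := hy
  obtain ⟨Q, hyQ, s, rfl⟩ := F.presheaf.exists_germ_eq m
  let s' : Γ(F.restrict (W i).ι, (W i).ι ⁻¹ᵁ Q) :=
    F.presheaf.map (homOfLE ((W i).ι.image_preimage_le Q)).op s
  obtain ⟨V', hV', ⟨z, hz⟩, hwV'⟩ :=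
    (QCohLib.epi_iff_locally_surjective π').mp hπ ((W i).ι ⁻¹ᵁ Q) s' w hyQ
  have hmem := germ_mem_span_of_sum (W i).ι F (le_top : V' ≤ ⊤) t _ w hwV' _ (hz.symm.trans (free_app_eq_sum π' z))
  exact Eq.subst (motive := (· ∈ _)) (germ_restrict_res (W i).ι F hV' w hwV' s) hmem

end Groth.Agent.Ref1
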