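import Groth.Prelude.Def_RefHull
import Groth.Agent.Ref1.Generators
import Groth.Agent.QCohLib.FiniteType

/-!
# Stalks of the sheaf Hom

* `evalStalk_injective` for `F` of finite type, `evalStalk_bijective` for `F` of finite presentation.
-/

universe u

open CategoryTheory CategoryTheory.Limits AlgebraicGeometry TopologicalSpace Opposite

set_option backward.isDefEq.respectTransparency false

namespace Groth.Agent.Ref1

variable {X : Scheme.{u}}

/-- Finitely many open neighbourhoods contain a common one. -/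
theorem exists_common_nhds {κ : Type*} [Finite κ] (x : X) (D : X.Opens) (hD : x ∈ D)
    (V : κ → X.Opens) (hV : ∀ k, x ∈ V k) :
    ∃ W : X.Opens, x ∈ W ∧ W ≤ D ∧ ∀ k, W ≤ V k :=
  ⟨D ⊓ ⟨⋂ k, (V k : Set X), isOpen_iInter_of_finite fun k => (V k).2⟩,
    ⟨hD, Set.mem_iInter.mpr hV⟩, inf_le_left,
    fun k => inf_le_right.trans fun _ hy => Set.mem_iInter.mp hy k⟩

theorem exists_res_eq_zero {G : X.Modules} {U : X.Opens} {x : X} (hx : x ∈ U) (n : Γ(G, U))
    (h : G.presheaf.germ U x hx n = 0) :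
    ∃ (V : X.Opens) (hVU : V ≤ U), x ∈ V ∧ G.presheaf.map (homOfLE hVU).op n = 0 := by
  obtain ⟨V, hxV, iV, _iU, e⟩ := G.presheaf.germ_eq x hx hx n 0 (by rw [h, map_zero])
  rw [map_zero] at e
  exact ⟨V, iV.le, hxV, e⟩

theorem evalStalk_injective (F G : X.Modules) (hF : CohB1.IsFT F) (x : X) :
    Function.Injective (RefHull.evalStalk F G x) := by
  rw [injective_iff_map_eq_zero]
  intro θ hθ
  obtain ⟨U, hx, g, rfl⟩ := (RefHull.homSh F G).presheaf.exists_germ_eq θ
  rw [RefHull.evalStalk_germ] at hθ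
  obtain ⟨V, hxV, κ, hκ, t, ht⟩ := exists_nhds_generators hF x
  have H : ∀ k, ∃ (W : X.Opens) (hW : W ≤ U ⊓ V), x ∈ W ∧ ∀ (y : X) (hy : y ∈ W),
      g.1 ⟨y, (hW hy).1⟩ (F.presheaf.germ V y (hW hy).2 (t k)) = 0 := by
    intro k
    obtain ⟨W, hxW, j, n, hW⟩ := RefHull.isLocSect_of_mem g (U ⊓ V) (homOfLE inf_le_left)
      (F.presheaf.map (homOfLE inf_le_right).op (t k)) ⟨x, hx, hxV⟩
    have h0 := hW ⟨x, hxW⟩
    rw [TopCat.Presheaf.germ_res_apply] at h0
    change g.1 ⟨x, hx⟩ _ = _ at h0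
    rw [hθ, LinearMap.zero_apply] at h0
    obtain ⟨W', hW'W, hxW', hn⟩ := exists_res_eq_zero hxW n h0.symm
    refine ⟨W', hW'W.trans j.le, hxW', fun y hy => ?_⟩
    have h1 := hW ⟨y, hW'W hy⟩
    rw [TopCat.Presheaf.germ_res_apply] at h1
    refine h1.trans ?_
    have := congrArg (G.presheaf.germ W' y hy) hn
    rwa [map_zero, TopCat.Presheaf.germ_res_apply] at this
  choose W hW hxW hg using H
  obtain ⟨W₀, hxW₀, hle, hWk⟩ := exists_common_nhds x (U ⊓ V) ⟨hx, hxV⟩ W hxW
  have hz : (RefHull.homSh F G).presheaf.map (homOfLE (hle.trans inf_le_left)).op g = 0 :=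
    Subtype.ext (funext fun y => LinearMap.ext_on_range (ht y.1 (hle y.2).2)
      fun k => (hg k y.1 (hWk k y.2)).trans (LinearMap.zero_apply _).symm)
  rw [← TopCat.Presheaf.germ_res_apply _ (homOfLE (hle.trans inf_le_left)) x hxW₀, hz, map_zero]

/-- A linear map on sections of an affine open extends to a local section of the sheaf Hom. -/
theorem exists_section_of_linearMap {F G : X.Modules} [F.IsQuasicoherent] {W D : X.Opens}
    (hW : IsAffineOpen W) (hD : D ≤ W) (ψ : Γ(F, W) →+ Γ(G, D))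
    (hψ : ∀ (a : Γ(X, W)) (s : Γ(F, W)), ψ (a • s) = X.presheaf.map (homOfLE hD).op a • ψ s) :
    ∃ g : Γ(RefHull.homSh F G, D), ∀ (y : X) (hy : y ∈ D) (s : Γ(F, W)),
      g.1 ⟨y, hy⟩ (F.presheaf.germ W y (hD hy) s) = G.presheaf.germ D y hy (ψ s) := by
  have H : ∀ y : D, ∃ h : RefHull.StalkHom F G y.1, ∀ s : Γ(F, W),
      h (F.presheaf.germ W y.1 (hD y.2) s) = G.presheaf.germ D y.1 y.2 (ψ s) := by
    rintro ⟨y, hy⟩
    let _ := QCohLib.germModule F y (hD hy)
    let _ := QCohLib.germModule G y (hD hy)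
    let _ : Algebra Γ(X, W) (X.presheaf.stalk y) := (X.presheaf.germ W y (hD hy)).hom.toAlgebra
    have : IsScalarTower Γ(X, W) (X.presheaf.stalk y) (F.presheaf.stalk y) :=
      ⟨fun a b c => mul_smul _ _ _⟩
    have : IsScalarTower Γ(X, W) (X.presheaf.stalk y) (G.presheaf.stalk y) :=
      ⟨fun a b c => mul_smul _ _ _⟩
    have hloc : IsLocalization.AtPrime (X.presheaf.stalk y) (hW.primeIdealOf ⟨y, hD hy⟩).asIdeal :=
      hW.isLocalization_stalk ⟨y, hD hy⟩
    have hlm := QCohLib.isLocalizedModule_germ (M := F) hW y (hD hy)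
    let ψy : Γ(F, W) →ₗ[Γ(X, W)] G.presheaf.stalk y :=
      { toFun := fun s => G.presheaf.germ D y hy (ψ s)
        map_add' := fun a b => by rw [map_add, map_add]
        map_smul' := fun a s => by
          rw [hψ, QCohLib.germ_smul, TopCat.Presheaf.germ_res_apply]; rfl }
    have hu : ∀ r : (hW.primeIdealOf ⟨y, hD hy⟩).asIdeal.primeCompl,
        IsUnit (algebraMap Γ(X, W) (Module.End Γ(X, W) (G.presheaf.stalk y)) r) := by
      intro r
      have hu : IsUnit (X.presheaf.germ W y (hD hy) r.1) := (X.mem_basicOpen r.1 y (hD hy)).mp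
        ((QCohLib.mem_basicOpen_iff_notMem_primeIdealOf hW (hD hy) r.1).mpr r.2)
      rw [Module.End.isUnit_iff]
      refine ⟨fun a b hab => ?_, fun b => ?_⟩
      · exact hu.smul_left_cancel.mp hab
      · obtain ⟨v, hv⟩ := hu
        refine ⟨(↑v⁻¹ : X.presheaf.stalk y) • b, ?_⟩
        change X.presheaf.germ W y (hD hy) r.1 • ((↑v⁻¹ : X.presheaf.stalk y) • b) = b
        rw [← hv, smul_smul, Units.mul_inv, one_smul]
    refine ⟨(IsLocalizedModule.lift _ (QCohLib.germLinearMap F y (hD hy)) ψy hu).extendScalarsOfIsLocalization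
      (hW.primeIdealOf ⟨y, hD hy⟩).asIdeal.primeCompl (X.presheaf.stalk y), fun s => ?_⟩
    exact IsLocalizedModule.lift_apply _ (QCohLib.germLinearMap F y (hD hy)) ψy hu s
  choose h hh using H
  refine ⟨⟨h, fun V i m z => ?_⟩, fun y hy s => hh ⟨y, hy⟩ s⟩
  obtain ⟨f, s, hzf, hfs⟩ := QCohLib.exists_smul_eq_germ hW z.1 (hD (i.le z.2))
    (F.presheaf.germ V z.1 z.2 m)
  let O : X.Opens := V ⊓ X.basicOpen f
  have hOV : O ≤ V := inf_le_left
  have hOW : O ≤ W := inf_le_right.trans (X.basicOpen_le f)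
  have hzO : z.1 ∈ O := ⟨z.2, hzf⟩
  obtain ⟨O', hzO', iO, _iO', e⟩ := F.presheaf.germ_eq z.1 hzO hzO
    (X.presheaf.map (homOfLE hOW).op f • F.presheaf.map (homOfLE hOV).op m)
    (F.presheaf.map (homOfLE hOW).op s) (by
      rw [QCohLib.germ_smul, TopCat.Presheaf.germ_res_apply, TopCat.Presheaf.germ_res_apply,
        TopCat.Presheaf.germ_res_apply, hfs])
  obtain ⟨v, hv⟩ : IsUnit (X.presheaf.map (homOfLE (iO.le.trans hOW)).op f) := by
    have h1 := (RingedSpace.isUnit_res_basicOpen X.toRingedSpace f).map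
      (X.presheaf.map (homOfLE (iO.le.trans inf_le_right : O' ≤ X.basicOpen f)).op).hom
    have e1 := QCohLib.ring_map_map (X := X) (iO.le.trans inf_le_right : O' ≤ X.basicOpen f)
      (X.basicOpen_le f) f
    rw [← e1]
    exact h1
  refine ⟨O', hzO', homOfLE (iO.le.trans hOV), (↑v⁻¹ : Γ(X, O')) •
    G.presheaf.map (homOfLE (iO.le.trans (hOV.trans i.le))).op (ψ s), fun y => ?_⟩
  have hyO : y.1 ∈ O := iO.le y.2
  have he := congrArg (F.presheaf.germ O' y.1 y.2) e
  rw [TopCat.Presheaf.germ_res_apply, TopCat.Presheaf.germ_res_apply, QCohLib.germ_smul,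
    TopCat.Presheaf.germ_res_apply, TopCat.Presheaf.germ_res_apply,
    TopCat.Presheaf.germ_res_apply] at he
  refine ((X.mem_basicOpen f y.1 (hOW hyO)).mp hyO.2).smul_left_cancel.mp ?_
  rw [← map_smul, he, hh, QCohLib.germ_smul, TopCat.Presheaf.germ_res_apply, smul_smul]
  have hv' : X.presheaf.germ W y.1 (hOW hyO) f = X.presheaf.germ O' y.1 y.2 (v : Γ(X, O')) := by
    rw [hv, TopCat.Presheaf.germ_res_apply]
  rw [hv', ← map_mul, Units.mul_inv, map_one, one_smul]

theorem evalStalk_bijective (F G : X.Modules) (hF : CohB1.IsFP F) (x : X) :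
    Function.Bijective (RefHull.evalStalk F G x) := by
  have hFT : CohB1.IsFT F := inferInstance
  refine ⟨evalStalk_injective F G hFT x, fun φ => ?_⟩
  have : F.IsQuasicoherent := inferInstance
  obtain ⟨W, hW, hxW, -⟩ := exists_isAffineOpen_mem_and_subset (X := X) (x := x) (U := ⊤) trivial
  have := QCohLib.finitePresentation_sections (M := F) hF hW
  obtain ⟨n, m, f, g, hf, hgf⟩ := Module.FinitePresentation.exists_fin' (R := Γ(X, W)) (M := Γ(F, W))
  choose Vn hVn nn hnn using fun j : Fin n =>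
    G.presheaf.exists_germ_eq (φ (F.presheaf.germ W x hxW (f (Pi.single j 1))))
  obtain ⟨D, hxD, hDW, hDV⟩ := exists_common_nhds x W hxW Vn hVn
  let modD : ∀ (E : X.Opens), E ≤ W → Module Γ(X, W) Γ(G, E) := fun E h =>
    Module.compHom _ (X.presheaf.map (homOfLE h).op).hom
  let _ := modD D hDW
  let ψ₀ : (Fin n → Γ(X, W)) →ₗ[Γ(X, W)] Γ(G, D) :=
    Fintype.linearCombination Γ(X, W) fun j => G.presheaf.map (homOfLE (hDV j)).op (nn j)
  let germF := QCohLib.germLinearMap F x hxW
  let _ := QCohLib.germModule F x hxW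
  let _ := QCohLib.germModule G x hxW
  let gD : Γ(G, D) →ₗ[Γ(X, W)] G.presheaf.stalk x :=
    { toFun := fun s => G.presheaf.germ D x hxD s
      map_add' := map_add _
      map_smul' := fun a s => by
        change G.presheaf.germ D x hxD (X.presheaf.map (homOfLE hDW).op a • s) = _
        rw [QCohLib.germ_smul, TopCat.Presheaf.germ_res_apply]
        rfl }
  let φA : F.presheaf.stalk x →ₗ[Γ(X, W)] G.presheaf.stalk x :=
    { toFun := φ
      map_add' := map_add _
      map_smul' := fun a s => φ.map_smul _ s }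
  have key : gD.comp ψ₀ = (φA.comp (QCohLib.germLinearMap F x hxW)).comp f := by
    refine (Pi.basisFun Γ(X, W) (Fin n)).ext fun j => ?_
    rw [Pi.basisFun_apply, LinearMap.comp_apply, LinearMap.comp_apply, LinearMap.comp_apply,
      Fintype.linearCombination_apply_single, one_smul]
    exact (TopCat.Presheaf.germ_res_apply G.presheaf _ x hxD (nn j)).trans (hnn j)
  choose E hE hxE hE0 using fun k : Fin m =>
    exists_res_eq_zero hxD (ψ₀ (g (Pi.single k 1))) (by
      have h1 := LinearMap.congr_fun key (g (Pi.single k 1))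
      rw [LinearMap.comp_apply, LinearMap.comp_apply, hgf.apply_apply_eq_zero, map_zero] at h1
      exact h1)
  obtain ⟨D', hxD', hD'D, hD'E⟩ := exists_common_nhds x D hxD E hxE
  let _ := modD D' (hD'D.trans hDW)
  let ψ₁ : (Fin n → Γ(X, W)) →ₗ[Γ(X, W)] Γ(G, D') :=
    { toFun := fun v => G.presheaf.map (homOfLE hD'D).op (ψ₀ v)
      map_add' := fun a b => by rw [map_add, map_add]
      map_smul' := fun a v => by
        rw [map_smul]
        change G.presheaf.map _ (X.presheaf.map (homOfLE hDW).op a • ψ₀ v) = _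
        rw [Scheme.Modules.map_smul, QCohLib.ring_map_map]
        rfl }
  have hker : LinearMap.ker f ≤ LinearMap.ker ψ₁ := by
    rw [LinearMap.exact_iff.mp hgf]
    rintro _ ⟨w, rfl⟩
    rw [LinearMap.mem_ker]
    have : ψ₁.comp g = 0 := (Pi.basisFun Γ(X, W) (Fin m)).ext fun k => by
      rw [Pi.basisFun_apply, LinearMap.comp_apply, LinearMap.zero_apply]
      change G.presheaf.map (homOfLE hD'D).op _ = 0
      rw [← QCohLib.map_map G (hD'E k) (hE k), hE0 k, map_zero]
    exact LinearMap.congr_fun this w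
  let ψ : Γ(F, W) →ₗ[Γ(X, W)] Γ(G, D') :=
    ((LinearMap.ker f).liftQ ψ₁ hker).comp (f.quotKerEquivOfSurjective hf).symm.toLinearMap
  have hψf : ∀ v, ψ (f v) = ψ₁ v := fun v => by
    change (LinearMap.ker f).liftQ ψ₁ hker ((f.quotKerEquivOfSurjective hf).symm (f v)) = _
    rw [show (f.quotKerEquivOfSurjective hf).symm (f v) = Submodule.Quotient.mk v from
      (LinearEquiv.symm_apply_eq _).mpr rfl]
    rfl
  obtain ⟨s₀, hs₀⟩ := exists_section_of_linearMap hW (hD'D.trans hDW) ψ.toAddMonoidHom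
    fun a s => ψ.map_smul a s
  refine ⟨(RefHull.homSh F G).presheaf.germ D' x hxD' s₀, ?_⟩
  rw [RefHull.evalStalk_germ]
  refine LinearMap.ext fun z => ?_
  obtain ⟨a, s, hxa, has⟩ := QCohLib.exists_smul_eq_germ hW x hxW z
  obtain ⟨v, rfl⟩ := hf s
  refine ((X.mem_basicOpen a x hxW).mp hxa).smul_left_cancel.mp ?_
  rw [← map_smul, ← map_smul, has, hs₀]
  refine (congrArg (G.presheaf.germ D' x hxD') (hψf v)).trans ?_
  exact (TopCat.Presheaf.germ_res_apply G.presheaf _ x hxD' _).trans (LinearMap.congr_fun key v)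

end Groth.Agent.Ref1
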