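import Groth.Prelude.Def_MeroSh
import Groth.Agent.QCohLib.Criterion
import Groth.Agent.QCohLib.Coherent
import Groth.Agent.Ref1.Generic

/-!
# The sheaf `O(D)` of a divisor on a normal scheme, as a subsheaf of the constant sheaf `K`

* `Ge`, `lat`: the lattice `L_D(x) ⊆ K`;
* `Fin D`: finitely many codimension one points with `D ≠ 0` in each affine open;
* `Sh hX D`, `isQuasicoherent_Sh`, `isCoh_Sh`.
-/

universe u

open CategoryTheory CategoryTheory.Limits AlgebraicGeometry TopologicalSpace Opposite Order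

set_option backward.isDefEq.respectTransparency false

namespace Groth.Agent.Ref1

variable {X : Scheme.{u}} [IsIntegral X] [IsLocallyNoetherian X]

/-- `ord v + D ≥ 0` at `y`. -/
def Ge (D : X → ℤ) (y : X) (v : X.functionField) : Prop := v = 0 ∨ -D y ≤ Scheme.ord v y

/-- The lattice of rational functions allowed at `x`. -/
def InLat (D : X → ℤ) (x : X) (v : X.functionField) : Prop :=
  ∀ y : X, y ⤳ x → coheight y = 1 → Ge D y v

theorem Ge.smul {D : X → ℤ} {y : X} {v : X.functionField} (h : Ge D y v) (a : X.presheaf.stalk y) :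
    Ge D y (algebraMap (X.presheaf.stalk y) X.functionField a * v) := by
  by_cases ha : a = 0
  · exact Or.inl (by rw [ha, map_zero, zero_mul])
  rcases h with h | h
  · exact Or.inl (by rw [h, mul_zero])
  by_cases hv : v = 0
  · exact Or.inl (by rw [hv, mul_zero])
  right
  rw [Scheme.ord_mul ((map_ne_zero_iff _ (algebraMap_stalk_injective y)).mpr ha) hv]
  have := ord_algebraMap_nonneg ha
  omega

theorem InLat.smul {D : X → ℤ} {x : X} {v : X.functionField} (h : InLat D x v) (a : X.presheaf.stalk x) :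
    InLat D x (algebraMap (X.presheaf.stalk x) X.functionField a * v) := by
  intro y hyx hy
  rw [← algebraMap_specializes hyx a]
  exact (h y hyx hy).smul _

theorem Ge.add (hX : Pi1.IsNormalScheme X) {D : X → ℤ} {y : X} (hy : coheight y = 1)
    {v w : X.functionField} (hv : Ge D y v) (hw : Ge D y w) : Ge D y (v + w) := by
  have := isDVR hX hy
  by_cases h : v + w = 0
  · exact Or.inl h
  rcases hv with hv | hv
  · rwa [hv, zero_add]
  rcases hw with hw | hw
  · rw [hw, add_zero]; exact Or.inr hv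
  right
  exact (le_min hv hw).trans (Scheme.ord_add h)

/-- The local predicate: a constant family with values in the lattices. -/
def shPred (D : X → ℤ) : TopCat.LocalPredicate (fun _ : X => (X.functionField : Type u)) where
  pred {U} f := (∀ a b : U, f a = f b) ∧ ∀ a : U, InLat D a.1 (f a)
  res {U V} i f h := ⟨fun a b => h.1 ⟨a.1, i.le a.2⟩ ⟨b.1, i.le b.2⟩, fun a => h.2 ⟨a.1, i.le a.2⟩⟩
  locality {U} f h := by
    refine ⟨fun a b => ?_, fun a => ?_⟩
    · obtain ⟨V, ha, i, hV⟩ := h a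
      obtain ⟨V', hb, i', hV'⟩ := h b
      exact (hV.1 ⟨a.1, ha⟩ ⟨_, eta_mem ha⟩).trans (hV'.1 ⟨_, eta_mem hb⟩ ⟨b.1, hb⟩)
    · obtain ⟨V, ha, i, hV⟩ := h a
      exact hV.2 ⟨a.1, ha⟩

theorem isModPred_shPred (hX : Pi1.IsNormalScheme X) (D : X → ℤ) : Mero.IsModPred (shPred D) where
  zero U := ⟨fun _ _ => rfl, fun _ _ _ _ => Or.inl rfl⟩
  add U f g hf hg := ⟨fun a b => congrArg₂ (· + ·) (hf.1 a b) (hg.1 a b),
    fun a y hya hy => (hf.2 a y hya hy).add hX hy (hg.2 a y hya hy)⟩
  smul U r f hf := by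
    refine ⟨fun a b => ?_, fun a => (hf.2 a).smul _⟩
    change algebraMap (X.presheaf.stalk a.1) X.functionField (X.presheaf.germ U a.1 a.2 r) * f a =
      algebraMap (X.presheaf.stalk b.1) X.functionField (X.presheaf.germ U b.1 b.2 r) * f b
    rw [algebraMap_germ, algebraMap_germ, hf.1 a b]

/-- The sheaf `O(D)`. -/
noncomputable def Sh (hX : Pi1.IsNormalScheme X) (D : X → ℤ) : X.Modules :=
  haveI := isModPred_shPred hX D
  Mero.modOf (shPred D)

variable {hX : Pi1.IsNormalScheme X} {D : X → ℤ}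

/-- The value of a section at a point. -/
def Sh.val {U : X.Opens} (f : Γ(Sh hX D, U)) (a : U) : X.functionField := f.1 a

theorem Sh.inLat {U : X.Opens} (f : Γ(Sh hX D, U)) (a : U) : InLat D a.1 (Sh.val f a) := f.2.2 a

theorem Sh.const {U : X.Opens} (f : Γ(Sh hX D, U)) (a b : U) : Sh.val f a = Sh.val f b := f.2.1 a b

theorem Sh.ext {U : X.Opens} (f g : Γ(Sh hX D, U)) (h : ∀ a : U, Sh.val f a = Sh.val g a) : f = g :=
  Subtype.ext (funext h)

theorem Sh.val_map {U V : X.Opens} (h : V ≤ U) (f : Γ(Sh hX D, U)) (a : V) :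
    Sh.val ((Sh hX D).presheaf.map (homOfLE h).op f) a = Sh.val f ⟨a.1, h a.2⟩ := rfl

theorem Sh.val_smul {U : X.Opens} (r : Γ(X, U)) (f : Γ(Sh hX D, U)) (a : U) :
    Sh.val (r • f) a = algebraMap (X.presheaf.stalk a.1) X.functionField (X.presheaf.germ U a.1 a.2 r) *
      Sh.val f a := rfl

theorem Sh.val_smul' {U : X.Opens} (r : Γ(X, U)) (f : Γ(Sh hX D, U)) (a : U) :
    Sh.val (r • f) a = X.presheaf.germ U (genericPoint ↥X) (eta_mem a.2) r * Sh.val f a := by
  rw [Sh.val_smul, algebraMap_germ]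

theorem Sh.val_zero {U : X.Opens} (a : U) : Sh.val (0 : Γ(Sh hX D, U)) a = 0 := rfl

theorem Sh.val_add {U : X.Opens} (f g : Γ(Sh hX D, U)) (a : U) :
    Sh.val (f + g) a = Sh.val f a + Sh.val g a := rfl

/-- A rational function in all lattices over `U` as a section. -/
noncomputable def Sh.mk (hX : Pi1.IsNormalScheme X) {D : X → ℤ} {U : X.Opens} (v : X.functionField)
    (h : ∀ x ∈ U, InLat D x v) : Γ(Sh hX D, U) :=
  ⟨fun _ => v, fun _ _ => rfl, fun a => h a.1 a.2⟩

theorem Sh.val_mk {U : X.Opens} (v : X.functionField) (h : ∀ x ∈ U, InLat D x v) (a : U) :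
    Sh.val (Sh.mk hX v h) a = v := rfl

theorem inLat_mk_of_forall {U : X.Opens} (v : X.functionField) {D : X → ℤ}
    (h : ∀ y ∈ U, coheight y = 1 → Ge D y v) : ∀ x ∈ U, ∀ y, y ⤳ x → coheight y = 1 → Ge D y v :=
  fun _ hx y hyx hy => h y (hyx.mem_open U.2 hx) hy

/-- Finitely many points of codimension one in each affine open where `D` is nonzero. -/
def Fin (D : X → ℤ) : Prop :=
  ∀ W : X.Opens, IsAffineOpen W → {y : X | y ∈ W ∧ coheight y = 1 ∧ D y ≠ 0}.Finite

omit [IsLocallyNoetherian X] in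
theorem coheight_eta : coheight (genericPoint ↥X) = 0 := by
  have h := ringKrullDim_stalk_eq_coheight (genericPoint ↥X)
  rw [ringKrullDim_eq_zero_of_isField (Field.toIsField X.functionField)] at h
  exact_mod_cast h.symm

omit [IsIntegral X] [IsLocallyNoetherian X] in
/-- Points of `S` finitely many of codimension one: avoid their closures. -/
theorem exists_open_avoiding {S : Set X} (hS : S.Finite) {x : X} (hx : ∀ y ∈ S, ¬ y ⤳ x) :
    ∃ V : X.Opens, x ∈ V ∧ ∀ y ∈ S, y ∉ V := by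
  refine ⟨⟨(⋃ y ∈ S, closure {y})ᶜ, (hS.isClosed_biUnion fun y _ => isClosed_closure).isOpen_compl⟩,
    ?_, fun y hy hyV => hyV (Set.mem_biUnion hy (subset_closure rfl))⟩
  rintro h
  obtain ⟨y, hy, hxy⟩ := Set.mem_iUnion₂.mp h
  exact hx y hy (specializes_iff_mem_closure.mpr hxy)

omit [IsLocallyNoetherian X] in
theorem not_specializes_eta {y : X} (hy : coheight y = 1) : ¬ y ⤳ genericPoint ↥X := by
  intro h
  have e : y = genericPoint ↥X := (h.antisymm (gsp y)).eq
  rw [e, coheight_eta] at hy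
  exact zero_ne_one hy

theorem finite_not_ge (hD : Fin D) {W : X.Opens} (hW : IsAffineOpen W) (v : X.functionField) :
    {y : X | y ∈ W ∧ coheight y = 1 ∧ ¬ Ge D y v}.Finite := by
  refine ((hD W hW).union (finite_ord_ne_zero hW v)).subset fun y hy => ?_
  by_contra h
  simp only [Set.mem_union, Set.mem_ofPred_eq, not_or, not_and, not_not] at h
  exact hy.2.2 (Or.inr (le_of_eq (by rw [h.1 hy.1 hy.2.1, h.2 hy.1 hy.2.1]; rfl)))

/-- A function in the lattice at `x` is in the lattices near `x`. -/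
theorem exists_nhds_inLat (hD : Fin D) {x : X} {v : X.functionField} (h : InLat D x v) :
    ∃ V : X.Opens, x ∈ V ∧ ∀ z ∈ V, InLat D z v := by
  obtain ⟨W, hW, hxW, -⟩ := exists_isAffineOpen_mem_and_subset (X := X) (x := x) (U := ⊤) trivial
  obtain ⟨V, hxV, hV⟩ := exists_open_avoiding (finite_not_ge hD hW v)
    (fun y hy hyx => hy.2.2 (h y hyx hy.2.1))
  refine ⟨W ⊓ V, ⟨hxW, hxV⟩, inLat_mk_of_forall (U := W ⊓ V) v fun y hy hy1 => ?_⟩
  by_contra hn
  exact hV y ⟨hy.1, hy1, hn⟩ hy.2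

omit [IsLocallyNoetherian X] in
theorem exists_not_isUnit_germ {W : X.Opens} (hW : IsAffineOpen W) {y : X} (hy : y ∈ W)
    (hy1 : coheight y = 1) : ∃ a : Γ(X, W), a ≠ 0 ∧ ¬ IsUnit (X.presheaf.germ W y hy a) := by
  by_contra h
  push Not at h
  have hbot : (hW.primeIdealOf ⟨y, hy⟩).asIdeal = ⊥ := by
    refine (Submodule.eq_bot_iff _).mpr fun a ha => ?_
    by_contra ha0
    exact (InvExtend.mem_basicOpen_iff hW hy a).mp ((X.mem_basicOpen a y hy).mpr (h a ha0)) ha
  refine not_specializes_eta hy1 ((InvExtend.specializes_iff hW (eta_mem hy) hy).mpr ?_)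
  rw [hbot]
  exact bot_le

theorem one_le_ord_germ (hX : Pi1.IsNormalScheme X) {W : X.Opens} {y : X} (hy : y ∈ W)
    (hy1 : coheight y = 1) {a : Γ(X, W)} (ha : a ≠ 0)
    (hu : ¬ IsUnit (X.presheaf.germ W y hy a)) :
    1 ≤ Scheme.ord (algebraMap (X.presheaf.stalk y) X.functionField (X.presheaf.germ W y hy a)) y := by
  have hg : X.presheaf.germ W y hy a ≠ 0 :=
    (map_ne_zero_iff _ (germ_injective_of_isIntegral X y hy)).mpr ha
  have hK := (map_ne_zero_iff _ (algebraMap_stalk_injective y)).mpr hg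
  by_contra h
  have h0 := ord_algebraMap_nonneg hg
  obtain ⟨b, hb⟩ := mem_range_of_ord_nonneg hX hy1 (inv_ne_zero hK) (by rw [ord_inv hK]; omega)
  refine hu (IsUnit.of_mul_eq_one b ?_)
  apply algebraMap_stalk_injective y
  rw [map_mul, map_one, hb, mul_inv_cancel₀ hK]

/-- A nonzero function on an affine open with prescribed lower bound on the orders. -/
theorem exists_ord_ge (hX : Pi1.IsNormalScheme X) {W : X.Opens} (hW : IsAffineOpen W) (hne : (W : Set X).Nonempty)
    (hD : Fin D) :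
    ∃ a : Γ(X, W), a ≠ 0 ∧ ∀ (y : X) (hy : y ∈ W), coheight y = 1 →
      D y ≤ Scheme.ord (algebraMap (X.presheaf.stalk y) X.functionField (X.presheaf.germ W y hy a)) y := by
  classical
  obtain ⟨x₀, hx₀⟩ := hne
  have : Nonempty W := ⟨⟨x₀, hx₀⟩⟩
  have : IsDomain Γ(X, W) := inferInstance
  suffices H : ∀ S : Finset X, (∀ y ∈ S, y ∈ W ∧ coheight y = 1) → ∃ a : Γ(X, W), a ≠ 0 ∧
      ∀ (y : X) (hy : y ∈ W), y ∈ S → D y ≤
        Scheme.ord (algebraMap (X.presheaf.stalk y) X.functionField (X.presheaf.germ W y hy a)) y by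
    obtain ⟨a, ha, h⟩ := H (hD W hW).toFinset fun y hy => by
      rw [Set.Finite.mem_toFinset] at hy
      exact ⟨hy.1, hy.2.1⟩
    refine ⟨a, ha, fun y hy hy1 => ?_⟩
    by_cases hy0 : D y = 0
    · rw [hy0]
      exact ord_algebraMap_nonneg ((map_ne_zero_iff _ (germ_injective_of_isIntegral X y hy)).mpr ha)
    · exact h y hy ((Set.Finite.mem_toFinset _).mpr ⟨hy, hy1, hy0⟩)
  intro S hS
  induction S using Finset.induction_on with
  | empty => exact ⟨1, one_ne_zero, fun y hy h => absurd h (Finset.notMem_empty y)⟩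
  | insert z S hz ih =>
    obtain ⟨a, ha, h⟩ := ih fun y hy => hS y (Finset.mem_insert_of_mem hy)
    obtain ⟨hzW, hz1⟩ := hS z (Finset.mem_insert_self z S)
    obtain ⟨b, hb, hbu⟩ := exists_not_isUnit_germ hW hzW hz1
    refine ⟨a * b ^ (D z).toNat, mul_ne_zero ha (pow_ne_zero _ hb), fun y hy hyS => ?_⟩
    have hne' : ∀ c : Γ(X, W), c ≠ 0 →
        algebraMap (X.presheaf.stalk y) X.functionField (X.presheaf.germ W y hy c) ≠ 0 := fun c hc =>
      (map_ne_zero_iff _ (algebraMap_stalk_injective y)).mpr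
        ((map_ne_zero_iff _ (germ_injective_of_isIntegral X y hy)).mpr hc)
    rw [map_mul, map_pow, map_mul, map_pow, Scheme.ord_mul (hne' a ha) (pow_ne_zero _ (hne' b hb)),
      ← zpow_natCast, ord_zpow (hne' b hb)]
    have h0 := ord_algebraMap_nonneg ((map_ne_zero_iff _ (germ_injective_of_isIntegral X y hy)).mpr ha)
    have h1 := ord_algebraMap_nonneg ((map_ne_zero_iff _ (germ_injective_of_isIntegral X y hy)).mpr hb)
    rcases Finset.mem_insert.mp hyS with rfl | hyS
    · have h2 := one_le_ord_germ hX hy hz1 hb hbu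
      have h3 := mul_le_mul_of_nonneg_left h2 (Int.natCast_nonneg (D y).toNat)
      have h4 := Int.self_le_toNat (D y)
      omega
    · have h3 := mul_nonneg (Int.natCast_nonneg (D z).toNat) h1
      have := h y hy hyS
      omega

theorem isQuasicoherent_Sh (hD : Fin D) : (Sh hX D).IsQuasicoherent := by
  refine QCohLib.isQuasicoherent_of_sections (fun U f s hs => ?_) (fun U f s => ?_)
  · by_cases hf : f = 0
    · exact ⟨1, by rw [pow_one, hf, zero_smul]⟩
    refine ⟨0, ?_⟩
    rw [pow_zero, one_smul]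
    have hne : (X.basicOpen f : Set X).Nonempty := by
      rw [Set.nonempty_iff_ne_empty]
      exact fun h => hf ((basicOpen_eq_bot_iff f).mp (Opens.ext h))
    obtain ⟨w, hw⟩ := hne
    refine Sh.ext _ _ fun a => ?_
    rw [Sh.val_zero, Sh.const s a ⟨w, X.basicOpen_le f hw⟩, ← Sh.val_map (X.basicOpen_le f) s ⟨w, hw⟩,
      hs]
    rfl
  · by_cases hf : f = 0
    · refine ⟨1, 0, Sh.ext _ _ fun a => absurd a.2 ?_⟩
      intro h
      have := (X.mem_basicOpen f a.1 (X.basicOpen_le f h)).mp h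
      have e0 : X.presheaf.germ U.1 a.1 (X.basicOpen_le f h) f = 0 :=
        (congrArg (X.presheaf.germ U.1 a.1 (X.basicOpen_le f h)) hf).trans (map_zero _)
      exact not_isUnit_zero (e0 ▸ this)
    obtain ⟨w, hw⟩ : (X.basicOpen f : Set X).Nonempty := by
      rw [Set.nonempty_iff_ne_empty]
      exact fun h => hf ((basicOpen_eq_bot_iff f).mp (Opens.ext h))
    have hη := eta_mem (U := U.1) (X.basicOpen_le f hw)
    let c := Sh.val s ⟨w, hw⟩
    let φ : X.functionField := X.presheaf.germ U.1 _ hη f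
    have hφ : φ ≠ 0 := (map_ne_zero_iff _ (germ_injective_of_isIntegral X _ hη)).mpr hf
    classical
    let S := (finite_not_ge hD U.2 c).toFinset
    let n : ℕ := S.sup fun y => (-D y - Scheme.ord c y).toNat
    have hv : ∀ y ∈ U.1, coheight y = 1 → Ge D y (φ ^ n * c) := by
      intro y hy hy1
      have hge := fun a => Ge.smul (D := D) (y := y) (v := c) (a := a)
      by_cases hcy : Ge D y c
      · have := hge (X.presheaf.germ U.1 y hy (f ^ n)) hcy
        rwa [map_pow, map_pow, algebraMap_germ] at this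
      · have hyS : y ∈ S := (Set.Finite.mem_toFinset _).mpr ⟨hy, hy1, hcy⟩
        have hu : ¬ IsUnit (X.presheaf.germ U.1 y hy f) := fun hu => by
          have hyf : y ∈ X.basicOpen f := (X.mem_basicOpen f y hy).mpr hu
          have h' := Sh.inLat s ⟨y, hyf⟩ y specializes_rfl hy1
          rw [Sh.const s ⟨y, hyf⟩ ⟨w, hw⟩] at h'
          exact hcy h'
        have h1 := one_le_ord_germ hX hy hy1 hf hu
        rw [algebraMap_germ] at h1
        change 1 ≤ Scheme.ord φ y at h1
        have hc : c ≠ 0 := fun e => hcy (Or.inl e)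
        right
        rw [Scheme.ord_mul (pow_ne_zero _ hφ) hc, ← zpow_natCast, ord_zpow hφ]
        have h2 : (-D y - Scheme.ord c y).toNat ≤ n :=
          Finset.le_sup (f := fun y => (-D y - Scheme.ord c y).toNat) hyS
        have h3 := mul_le_mul_of_nonneg_left h1 (Int.natCast_nonneg n)
        omega
    refine ⟨n, Sh.mk hX (φ ^ n * c) (inLat_mk_of_forall _ hv), Sh.ext _ _ fun a => ?_⟩
    rw [Sh.val_map, Sh.val_mk, Sh.val_smul', map_pow, TopCat.Presheaf.germ_res_apply,
      Sh.const s a ⟨w, hw⟩]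

theorem isFiniteType_Sh (hD : Fin D) : (Sh hX D).IsFiniteType := by
  have := isQuasicoherent_Sh (hX := hX) hD
  rw [QCohLib.isFiniteType_iff_affine]
  intro W
  by_cases hne : ((W.1 : X.Opens) : Set X).Nonempty
  swap
  · have : Subsingleton Γ(Sh hX D, W.1) :=
      ⟨fun s t => Sh.ext _ _ fun a => absurd ⟨a.1, a.2⟩ hne⟩
    infer_instance
  obtain ⟨x₀, hx₀⟩ := hne
  have hη : genericPoint ↥X ∈ W.1 := eta_mem hx₀
  have : Nonempty W.1 := ⟨⟨x₀, hx₀⟩⟩
  have : IsNoetherianRing Γ(X, W.1) := IsLocallyNoetherian.component_noetherian W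
  have : IsDomain Γ(X, W.1) := inferInstance
  obtain ⟨a, ha, hord⟩ := exists_ord_ge hX W.2 ⟨x₀, hx₀⟩ hD
  let φ : X.functionField := X.presheaf.germ W.1 _ hη a
  have hφ : φ ≠ 0 := (map_ne_zero_iff _ (germ_injective_of_isIntegral X _ hη)).mpr ha
  have hex : ∀ s : Γ(Sh hX D, W.1), ∃ r : Γ(X, W.1),
      X.presheaf.germ W.1 (genericPoint ↥X) hη r = φ * Sh.val s ⟨_, hη⟩ := by
    intro s
    have hloc : ∀ x ∈ W.1, φ * Sh.val s ⟨_, hη⟩ ∈
        Set.range (algebraMap (X.presheaf.stalk x) X.functionField) := by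
      intro x hx
      by_cases hv : φ * Sh.val s ⟨_, hη⟩ = 0
      · exact ⟨0, by rw [map_zero, hv]⟩
      rw [mem_range_iff_ord hX x hv]
      intro y hyx hy1
      have hyW : y ∈ W.1 := hyx.mem_open W.1.2 hx
      rw [Scheme.ord_mul hφ (right_ne_zero_of_mul hv)]
      have h1 := hord y hyW hy1
      rw [algebraMap_germ] at h1
      change D y ≤ Scheme.ord φ y at h1
      rcases Sh.inLat s ⟨y, hyW⟩ y specializes_rfl hy1 with h | h
      · exact absurd ((Sh.const s ⟨_, hη⟩ ⟨y, hyW⟩).trans h) (right_ne_zero_of_mul hv)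
      · rw [Sh.const s ⟨y, hyW⟩ ⟨_, hη⟩] at h
        omega
    let J : _root_.Ideal Γ(X, W.1) :=
      { carrier := {t | ∃ r : Γ(X, W.1), X.presheaf.germ W.1 _ hη r =
          X.presheaf.germ W.1 _ hη t * (φ * Sh.val s ⟨_, hη⟩)}
        add_mem' := fun {p q} ⟨r, hr⟩ ⟨r', hr'⟩ => ⟨r + r', by rw [map_add, map_add, hr, hr', add_mul]⟩
        zero_mem' := ⟨0, by rw [map_zero, zero_mul]⟩
        smul_mem' := fun c p ⟨r, hr⟩ =>
          ⟨c * r, by rw [smul_eq_mul, map_mul, map_mul, hr, mul_assoc]⟩ }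
    suffices hJ : J = ⊤ by
      obtain ⟨r, hr⟩ : (1 : Γ(X, W.1)) ∈ J := by rw [hJ]; trivial
      exact ⟨r, by rw [hr, map_one, one_mul]⟩
    by_contra hJ
    obtain ⟨M, hM, hle⟩ := Ideal.exists_le_maximal J hJ
    let x : X := InvExtend.pt W.2 ⟨M, hM.isPrime⟩
    have hx : x ∈ W.1 := InvExtend.pt_mem W.2 _
    obtain ⟨q, hq⟩ := hloc x hx
    let _ : Algebra Γ(X, W.1) (X.presheaf.stalk x) := (X.presheaf.germ W.1 x hx).hom.toAlgebra
    have hl : IsLocalization.AtPrime (X.presheaf.stalk x) (W.2.primeIdealOf ⟨x, hx⟩).asIdeal :=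
      W.2.isLocalization_stalk ⟨x, hx⟩
    obtain ⟨⟨r, t⟩, e⟩ := IsLocalization.surj (W.2.primeIdealOf ⟨x, hx⟩).asIdeal.primeCompl q
    have ht : t.1 ∈ J := by
      refine ⟨r, ?_⟩
      have e' := congrArg (algebraMap (X.presheaf.stalk x) X.functionField) e
      rw [map_mul, RingHom.algebraMap_toAlgebra] at e'
      change _ * algebraMap _ _ (X.presheaf.germ W.1 x hx t.1) =
        algebraMap _ _ (X.presheaf.germ W.1 x hx r) at e'
      rw [algebraMap_germ, algebraMap_germ] at e'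
      rw [← e', mul_comm, ← hq]
      rfl
    exact t.2 ((SetLike.ext_iff.mp (congrArg PrimeSpectrum.asIdeal
      (InvExtend.primeIdealOf_pt W.2 ⟨M, hM.isPrime⟩)) t.1).mpr (hle ht))
  choose r hr using hex
  have hinj := germ_injective_of_isIntegral X (U := W.1) _ hη
  let L : Γ(Sh hX D, W.1) →ₗ[Γ(X, W.1)] Γ(X, W.1) :=
    { toFun := r
      map_add' := fun s t => hinj (by rw [map_add, hr, hr, hr, Sh.val_add, mul_add])
      map_smul' := fun c s => hinj (by
        rw [RingHom.id_apply, smul_eq_mul, map_mul, hr, hr, Sh.val_smul']; ring) }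
  refine Module.Finite.of_injective L fun s t h => Sh.ext _ _ fun b => ?_
  have := congrArg (X.presheaf.germ W.1 _ hη) h
  change X.presheaf.germ W.1 _ hη (r s) = X.presheaf.germ W.1 _ hη (r t) at this
  rw [hr, hr] at this
  rw [Sh.const s b ⟨_, hη⟩, Sh.const t b ⟨_, hη⟩]
  exact mul_left_cancel₀ hφ this

theorem isCoh_Sh (hD : Fin D) : Coh.IsCoh (Sh hX D) :=
  ⟨isQuasicoherent_Sh hD, isFiniteType_Sh hD⟩

end Groth.Agent.Ref1
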