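import Groth.Agent.Ref1.TensorRep

/-!
# Isomorphism classes of rank one coherent reflexive modules
-/

universe u

open CategoryTheory CategoryTheory.Limits AlgebraicGeometry TopologicalSpace Opposite Order

set_option backward.isDefEq.respectTransparency false

namespace Groth.Agent.Ref1

variable {X : Scheme.{u}}

theorem nonempty_iso_of_cl_eq {F G : X.Modules} (h : PicF.cl F = PicF.cl G) : Nonempty (F ≅ G) :=
  Equivalence.eqvGen_iff (r := fun L L' : X.Modules => Nonempty (L ≅ L'))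
    ⟨fun L => ⟨Iso.refl L⟩, fun ⟨e⟩ => ⟨e.symm⟩, fun ⟨e⟩ ⟨e'⟩ => ⟨e ≪≫ e'⟩⟩ |>.mp (Quot.eqvGen_exact h)

theorem cl_eq_of_iso {F G : X.Modules} (h : Nonempty (F ≅ G)) : PicF.cl F = PicF.cl G :=
  Quot.sound h

variable [IsIntegral X] [IsLocallyNoetherian X]

/-- `F` has divisor `D` for some rational section. -/
def HasDiv (F : X.Modules) (D : X → ℤ) : Prop :=
  Fin D ∧ ∃ s : F.presheaf.stalk (genericPoint ↥X), Rep F s D

theorem exists_hasDiv (hX : Pi1.IsNormalScheme X) {F : X.Modules} (hF : RefHull.IsRef1 F) :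
    ∃ D, HasDiv F D := by
  obtain ⟨t, D, hfin, -, h⟩ := exists_rep_of_isRef1 hX hF
  exact ⟨D, hfin, t, h⟩

theorem HasDiv.of_iso {F G : X.Modules} {D : X → ℤ} (h : HasDiv F D) (e : F ≅ G) : HasDiv G D := by
  obtain ⟨hfin, s, hs⟩ := h
  exact ⟨hfin, _, hs.transport e⟩

theorem HasDiv.cl_eq {F G : X.Modules} {D E : X → ℤ} (h : HasDiv F D) (h' : HasDiv G E)
    (he : ∀ y, D y = E y) : PicF.cl F = PicF.cl G := by
  obtain ⟨-, s, hs⟩ := h
  obtain ⟨-, t, ht⟩ := h'
  exact cl_eq_of_iso (hs.exists_iso ht fun y _ => he y)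

theorem HasDiv.tensor (hX : Pi1.IsNormalScheme X) {F G : X.Modules} {D E : X → ℤ} (h : HasDiv F D)
    (h' : HasDiv G E) : HasDiv (RefHull.ddual (CohB1.tensorMod F G)) fun y => D y + E y := by
  obtain ⟨hf, s, hs⟩ := h
  obtain ⟨hg, t, ht⟩ := h'
  exact ⟨Fin.add hf hg, exists_rep_ddual_tensor hX hs ht hf hg⟩

theorem HasDiv.dual (hX : Pi1.IsNormalScheme X) {F : X.Modules} {D : X → ℤ} (h : HasDiv F D) :
    HasDiv (RefHull.dual F) fun y => -D y := by
  obtain ⟨hf, s, hs⟩ := h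
  obtain ⟨s', hs', -⟩ := hs.exists_rep_dual hX (hs.isCoh hX hf)
  exact ⟨Fin.neg hf, s', hs'⟩

theorem HasDiv.isRef1 (hX : Pi1.IsNormalScheme X) {F : X.Modules} {D : X → ℤ} (h : HasDiv F D) :
    RefHull.IsRef1 F := by
  obtain ⟨hf, s, hs⟩ := h
  exact hs.isRef1 hX hf

theorem hasDiv_structureModule (hX : Pi1.IsNormalScheme X) :
    HasDiv (Coh.structureModule X) fun _ => 0 := by
  refine ⟨fun W _ => Set.Finite.subset Set.finite_empty fun y hy => (hy.2.2 rfl).elim,
    one (genericPoint ↥X), fun z => unit_stalk_exists _ z, fun c hc => unit_stalk_free _ c hc,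
    fun x => ?_, fun x c => ?_⟩
  · rw [injective_iff_map_eq_zero]
    exact fun w hw => sp_unit_injective x w hw
  · rw [inLat_zero_iff hX x c fun _ _ _ => rfl]
    constructor
    · rintro ⟨m, hm⟩
      obtain ⟨a, rfl⟩ := unit_stalk_exists x m
      rw [sp_smul, sp_one] at hm
      exact ⟨a, (unit_stalk_bijective _).1 hm⟩
    · rintro ⟨a, rfl⟩
      exact ⟨a • one x, by rw [sp_smul, sp_one]⟩

end Groth.Agent.Ref1
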