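import Groth.Agent.Ref1.Main

/-!
# The dual of an arbitrary module of generic rank one with known least orders

No coherence is needed: `exists_rep_dual_of_least`.
-/

universe u

open CategoryTheory CategoryTheory.Limits AlgebraicGeometry TopologicalSpace Opposite Order

set_option backward.isDefEq.respectTransparency false

namespace Groth.Agent.Ref1

variable {X : Scheme.{u}} [IsIntegral X] [IsLocallyNoetherian X]

omit [IsLocallyNoetherian X] in
theorem algebraMap_eta (a : X.presheaf.stalk (genericPoint ↥X)) :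
    @algebraMap (X.presheaf.stalk (genericPoint ↥X)) X.functionField _ _
      (stalkFunctionFieldAlgebra X (genericPoint ↥X)) a = a := by
  obtain ⟨U, hU, r, rfl⟩ := X.presheaf.exists_germ_eq a
  exact algebraMap_germ hU r

omit [IsLocallyNoetherian X] in
/-- A section of the dual vanishing at the generic point vanishes. -/
theorem dual_eq_zero_of_eta {T : X.Modules} {U : X.Opens} (hU : genericPoint ↥X ∈ U)
    (g : Γ(RefHull.dual T, U)) (h : g.1 ⟨_, hU⟩ = 0) : g = 0 := by
  refine Subtype.ext (funext fun y => LinearMap.ext fun m => sp_unit_injective y.1 _ ?_)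
  have e := evalStalk_sp T (Coh.structureModule X) y.1
    ((RefHull.dual T).presheaf.germ U y.1 y.2 g) m
  rw [RefHull.evalStalk_germ] at e
  rw [← e, sp_germ, RefHull.evalStalk_germ, h, LinearMap.zero_apply]

/-- A value in all lattices over `V` defines a section of the dual over `V`. -/
theorem exists_dual_section (hX : Pi1.IsNormalScheme X) {T : X.Modules}
    {τ : T.presheaf.stalk (genericPoint ↥X)}
    (co : T.presheaf.stalk (genericPoint ↥X) → X.functionField)
    (hco : ∀ z, z = co z • τ) (couniq : ∀ z c, z = c • τ → co z = c)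
    {D : X → ℤ} (hD : ∀ y, coheight y = 1 → IsLeast (ordSet T τ y) (D y))
    {V : X.Opens} {x : X} (hxV : x ∈ V) {c : X.functionField} (hV : ∀ z ∈ V, InLat D z c) :
    ∃ g : Γ(RefHull.dual T, V),
      g.1 ⟨_, eta_mem hxV⟩ τ = c • one (genericPoint ↥X) := by
  have hrange : ∀ (z : V) (m : T.presheaf.stalk z.1),
      c * co (sp T z.1 m) ∈ Set.range (algebraMap (X.presheaf.stalk z.1) X.functionField) := by
    intro z m
    by_cases h0 : c * co (sp T z.1 m) = 0
    · exact ⟨0, by rw [map_zero, h0]⟩
    rw [mem_range_iff_ord hX z.1 h0]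
    intro y hyz hy1
    rw [Scheme.ord_mul (left_ne_zero_of_mul h0) (right_ne_zero_of_mul h0)]
    have h1 := (hV z.1 z.2 y hyz hy1).resolve_left (left_ne_zero_of_mul h0)
    have h2 := (hD y hy1).2 ⟨T.presheaf.stalkSpecializes hyz m, co (sp T z.1 m),
      right_ne_zero_of_mul h0, by rw [sp_specializes, ← hco], rfl⟩
    omega
  choose r hr using hrange
  have hinj := fun z : V => algebraMap_stalk_injective z.1
  let L : ∀ z : V, RefHull.StalkHom T (Coh.structureModule X) z.1 := fun z =>
    { toFun := fun m => r z m • one z.1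
      map_add' := fun a b => by
        rw [← add_smul]
        congr 1
        apply hinj z
        rw [map_add, hr, hr, hr, couniq (sp T z.1 (a + b)) (co (sp T z.1 a) + co (sp T z.1 b))
          (by rw [map_add, add_smul, ← hco, ← hco]), mul_add]
      map_smul' := fun a m => by
        rw [RingHom.id_apply, smul_smul]
        congr 1
        apply hinj z
        rw [map_mul, hr, hr, couniq (sp T z.1 (a • m)) (algebraMap _ _ a * co (sp T z.1 m))
          (by rw [sp_smul, mul_smul, ← hco])]
        ring }
  have hL : RefHull.IsLocSect T (Coh.structureModule X) L := by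
    intro V' i σ z
    have hmem : ∀ y ∈ V', c * co (T.presheaf.germ V' (genericPoint ↥X) (eta_mem z.2) σ) ∈
        Set.range (algebraMap (X.presheaf.stalk y) X.functionField) := fun y hy =>
      ⟨r ⟨y, i.le hy⟩ (T.presheaf.germ V' y hy σ),
        (hr ⟨y, i.le hy⟩ (T.presheaf.germ V' y hy σ)).trans
          (congrArg (fun t => c * co t) (sp_germ T y hy σ))⟩
    obtain ⟨q, hq⟩ := exists_section_of_forall_range z.2 _ hmem
    refine ⟨V', z.2, 𝟙 V', q, fun y => ?_⟩
    refine Eq.trans ?_ (germ_unit y.1 y.2 q).symm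
    exact congrArg (fun t : X.presheaf.stalk y.1 => t • one y.1) (algebraMap_stalk_injective y.1
      ((hr ⟨y.1, i.le y.2⟩ (T.presheaf.germ V' y.1 y.2 σ)).trans
        ((congrArg (fun t => c * co t) (sp_germ T y.1 y.2 σ)).trans
          (hq.symm.trans (algebraMap_germ y.2 q).symm))))
  refine ⟨⟨L, hL⟩, ?_⟩
  change r ⟨_, eta_mem hxV⟩ τ • one (genericPoint ↥X) = _
  refine congrArg (fun t => t • one (genericPoint ↥X)) (((algebraMap_eta _).symm.trans
    (hr ⟨_, eta_mem hxV⟩ τ)).trans ?_)
  rw [sp_generic, couniq τ 1 (one_smul _ _).symm, mul_one]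

/-- The dual of a module of generic rank one is represented by the least orders. -/
theorem exists_rep_dual_of_least (hX : Pi1.IsNormalScheme X) {T : X.Modules}
    {τ : T.presheaf.stalk (genericPoint ↥X)}
    (span : ∀ z : T.presheaf.stalk (genericPoint ↥X), ∃ c : X.functionField, z = c • τ)
    (free : ∀ c : X.functionField, c • τ = 0 → c = 0)
    {D : X → ℤ} (hfin : Fin D) (hD : ∀ y, coheight y = 1 → IsLeast (ordSet T τ y) (D y)) :
    ∃ s', Rep (RefHull.dual T) s' D ∧
      RefHull.evalStalk T (Coh.structureModule X) (genericPoint ↥X) s' τ =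
        one (genericPoint ↥X) := by
  choose co hco using span
  have couniq : ∀ z c, z = c • τ → co z = c := fun z c h =>
    sub_eq_zero.mp (free _ (by rw [sub_smul, sub_eq_zero, ← hco z]; exact h))
  let O := Coh.structureModule X
  let η := genericPoint ↥X
  have hinjη : ∀ θ : (RefHull.dual T).presheaf.stalk η,
      RefHull.evalStalk T O η θ = 0 → θ = 0 := by
    intro θ hθ
    obtain ⟨U, hU, g, rfl⟩ := (RefHull.dual T).presheaf.exists_germ_eq θ
    rw [RefHull.evalStalk_germ] at hθ
    rw [dual_eq_zero_of_eta hU g hθ, map_zero]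
  have hsec : ∀ (x : X) (c : X.functionField), InLat D x c → ∃ θ : (RefHull.dual T).presheaf.stalk x,
      RefHull.evalStalk T O η (sp (RefHull.dual T) x θ) τ = c • one η := by
    intro x c hc
    obtain ⟨V, hxV, hV⟩ := exists_nhds_inLat hfin hc
    obtain ⟨g, hg⟩ := exists_dual_section hX co hco couniq hD hxV hV
    exact ⟨(RefHull.dual T).presheaf.germ V x hxV g, by rw [sp_germ, RefHull.evalStalk_germ, hg]⟩
  obtain ⟨U₀, hη₀, h0⟩ := exists_open_eq_zero hfin
  obtain ⟨θ₁, hθ₁⟩ := hsec η 1 fun y hy hy1 => absurd hy (not_specializes_eta hy1)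
  obtain ⟨s', hs'⟩ : ∃ s', sp (RefHull.dual T) η θ₁ = s' := ⟨_, rfl⟩
  rw [hs', one_smul] at hθ₁
  have det : ∀ (z : (RefHull.dual T).presheaf.stalk η) (c : X.functionField),
      RefHull.evalStalk T O η z τ = c • one η → z = c • s' := by
    intro z c h
    refine sub_eq_zero.mp (hinjη _ (LinearMap.ext fun w => ?_))
    rw [hco w, map_smul, map_sub, map_smul, LinearMap.sub_apply, LinearMap.smul_apply, h, hθ₁,
      sub_self, smul_zero, LinearMap.zero_apply]
  refine ⟨s', ⟨fun z => ?_, fun c hc => ?_, fun x => ?_, fun x c => ?_⟩, hθ₁⟩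
  · obtain ⟨c, hc⟩ := unit_stalk_exists _ (RefHull.evalStalk T O η z τ)
    exact ⟨c, det z c hc⟩
  · have := congrArg (fun θ => RefHull.evalStalk T O η θ τ) hc
    simp only [map_smul, LinearMap.smul_apply, hθ₁, map_zero, LinearMap.zero_apply] at this
    exact unit_stalk_free _ c this
  · rw [injective_iff_map_eq_zero]
    intro θ hθ
    obtain ⟨U, hU, g, rfl⟩ := (RefHull.dual T).presheaf.exists_germ_eq θ
    rw [sp_germ] at hθ
    have h := congrArg (RefHull.evalStalk T O η) hθ
    rw [RefHull.evalStalk_germ, map_zero] at h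
    rw [dual_eq_zero_of_eta (eta_mem hU) g h, map_zero]
  constructor
  · rintro ⟨θ, hθ⟩ y hyx hy1
    by_cases hc : c = 0
    · exact Or.inl hc
    obtain ⟨m, d, hd0, hm, hd⟩ := (hD y hy1).1
    have h := evalStalk_sp T O y ((RefHull.dual T).presheaf.stalkSpecializes hyx θ) m
    rw [sp_specializes, hθ, hm, map_smul, map_smul, LinearMap.smul_apply, hθ₁, ← mul_smul] at h
    obtain ⟨a, ha⟩ := unit_stalk_exists y
      (RefHull.evalStalk T O y ((RefHull.dual T).presheaf.stalkSpecializes hyx θ) m)
    rw [ha, sp_smul, sp_one] at h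
    have h' := (unit_stalk_bijective _).1 h
    right
    have h2 := Scheme.ord_mul (x := y) hd0 hc
    rw [h'] at h2
    have h3 := ord_algebraMap_nonneg (y := y) (a := a) fun e => by
      rw [e, map_zero] at h'; exact mul_ne_zero hd0 hc h'
    omega
  · intro hlat
    obtain ⟨θ, hθ⟩ := hsec x c hlat
    exact ⟨θ, det _ c hθ⟩

end Groth.Agent.Ref1
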