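import Groth.Agent.ProjCoh.TensorSections
import Groth.Agent.ProjTwist.LiftHom
import Groth.Agent.Ref1.DualGen

/-!
# The reflexive tensor product of `O(D₁)` and `O(D₂)` is `O(D₁ + D₂)`
-/

universe u

open CategoryTheory CategoryTheory.Limits AlgebraicGeometry TopologicalSpace Opposite Order
open MonoidalCategory TensorProduct

set_option backward.isDefEq.respectTransparency false

namespace Groth.Agent.Ref1

variable {X : Scheme.{u}} [IsIntegral X] [IsLocallyNoetherian X]

theorem InLat.mul_ord {D₁ D₂ : X → ℤ} {x : X} {a b : X.functionField}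
    (ha : InLat D₁ x a) (hb : InLat D₂ x b) : InLat (fun y => D₁ y + D₂ y) x (a * b) := by
  intro y hyx hy
  by_cases h : a * b = 0
  · exact Or.inl h
  right
  rw [Scheme.ord_mul (left_ne_zero_of_mul h) (right_ne_zero_of_mul h)]
  have h1 := (ha y hyx hy).resolve_left (left_ne_zero_of_mul h)
  have h2 := (hb y hyx hy).resolve_left (right_ne_zero_of_mul h)
  dsimp only
  omega

omit [IsIntegral X] [IsLocallyNoetherian X] in
theorem Fin.add {D₁ D₂ : X → ℤ} (h₁ : Fin D₁) (h₂ : Fin D₂) : Fin fun y => D₁ y + D₂ y := by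
  intro W hW
  refine ((h₁ W hW).union (h₂ W hW)).subset fun y hy => ?_
  by_contra h
  simp only [Set.mem_union, Set.mem_ofPred_eq, not_or, not_and, not_not] at h
  exact hy.2.2 (by beta_reduce; rw [h.1 hy.1 hy.2.1, h.2 hy.1 hy.2.1]; rfl)

variable {F G : X.Modules} {s : F.presheaf.stalk (genericPoint ↥X)}
  {t : G.presheaf.stalk (genericPoint ↥X)} {D₁ D₂ : X → ℤ}

/-- The multiplication `F ⊗ G → O(D₁ + D₂)`. -/
theorem exists_mulHom (hX : Pi1.IsNormalScheme X) (hF : Rep F s D₁) (hG : Rep G t D₂) :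
    ∃ μ : CohB1.tensorMod F G ⟶ Sh hX (fun y => D₁ y + D₂ y),
      ∀ (U : X.Opens) (m : Γ(F, U)) (n : Γ(G, U)) (a : U) (c d : X.functionField),
        F.presheaf.germ U (genericPoint ↥X) (eta_mem a.2) m = c • s →
        G.presheaf.germ U (genericPoint ↥X) (eta_mem a.2) n = d • t →
        Sh.val (μ.app U (SecTwist.tmul F G U m n)) a = c * d := by
  choose cF hcF using hF.span
  choose cG hcG using hG.span
  have uF : ∀ z c, z = c • s → cF z = c := fun z c h => hF.cancel ((hcF z).symm.trans h)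
  have uG : ∀ z c, z = c • t → cG z = c := fun z c h => hG.cancel ((hcG z).symm.trans h)
  let coF : ∀ (U : X.Opens), Γ(F, U) → U → X.functionField := fun U m a =>
    cF (F.presheaf.germ U (genericPoint ↥X) (eta_mem a.2) m)
  let coG : ∀ (U : X.Opens), Γ(G, U) → U → X.functionField := fun U m a =>
    cG (G.presheaf.germ U (genericPoint ↥X) (eta_mem a.2) m)
  let b : ∀ (U : X.Opens), Γ(F, U) → Γ(G, U) → Γ(Sh hX (fun y => D₁ y + D₂ y), U) := fun U m n =>
    ⟨fun a => coF U m a * coG U n a, fun a a' => rfl, fun a =>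
      ((hF.img a.1 _).mp ⟨F.presheaf.germ U a.1 a.2 m, (sp_germ F a.1 a.2 m).trans (hcF _)⟩).mul_ord
        ((hG.img a.1 _).mp ⟨G.presheaf.germ U a.1 a.2 n, (sp_germ G a.1 a.2 n).trans (hcG _)⟩)⟩
  have addF : ∀ (U : X.Opens) m m' a, coF U (m + m') a = coF U m a + coF U m' a := fun U m m' a =>
    uF _ _ (by rw [map_add, add_smul]; exact congrArg₂ (· + ·) (hcF _) (hcF _))
  have addG : ∀ (U : X.Opens) m m' a, coG U (m + m') a = coG U m a + coG U m' a := fun U m m' a =>
    uG _ _ (by rw [map_add, add_smul]; exact congrArg₂ (· + ·) (hcG _) (hcG _))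
  have smulF : ∀ (U : X.Opens) (r : Γ(X, U)) m (a : U), coF U (r • m) a =
      X.presheaf.germ U (genericPoint ↥X) (eta_mem a.2) r * coF U m a := fun U r m a =>
    uF _ _ (by rw [QCohLib.germ_smul, mul_smul]; exact congrArg _ (hcF _))
  have smulG : ∀ (U : X.Opens) (r : Γ(X, U)) m (a : U), coG U (r • m) a =
      X.presheaf.germ U (genericPoint ↥X) (eta_mem a.2) r * coG U m a := fun U r m a =>
    uG _ _ (by rw [QCohLib.germ_smul, mul_smul]; exact congrArg _ (hcG _))
  let φ : CohB1.toPMod F ⊗ CohB1.toPMod G ⟶ CohB1.toPMod (Sh hX (fun y => D₁ y + D₂ y)) :=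
    ProjTwist.liftHom (fun U m n => b U.unop m n)
      (fun U m m' n => Sh.ext _ _ fun a =>
        (congrArg (· * coG U.unop n a) (addF U.unop m m' a)).trans (add_mul _ _ _))
      (fun U r m n => Sh.ext _ _ fun a =>
        ((congrArg (· * coG U.unop n a) (smulF U.unop r m a)).trans (mul_assoc _ _ _)).trans
          (Sh.val_smul' (show Γ(X, U.unop) from r) (b U.unop m n) a).symm)
      (fun U m n n' => Sh.ext _ _ fun a =>
        (congrArg (coF U.unop m a * ·) (addG U.unop n n' a)).trans (mul_add _ _ _))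
      (fun U r m n => Sh.ext _ _ fun a =>
        ((congrArg (coF U.unop m a * ·) (smulG U.unop r n a)).trans (mul_left_comm _ _ _)).trans
          (Sh.val_smul' (show Γ(X, U.unop) from r) (b U.unop m n) a).symm)
      (fun {U V} f m n => Sh.ext _ _ fun a => by
        change cF (F.presheaf.germ V.unop _ _ (F.presheaf.map f m)) *
          cG (G.presheaf.germ V.unop _ _ (G.presheaf.map f n)) = cF _ * cG _
        rw [TopCat.Presheaf.germ_res_apply', TopCat.Presheaf.germ_res_apply'])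
  let φ' : (show X.PresheafOfModules from CohB1.tensorPre F G) ⟶
      (PresheafOfModules.restrictScalars (𝟙 X.ringCatSheaf.obj)).obj
        (Sh hX (fun y => D₁ y + D₂ y)).val := φ
  let μ : CohB1.tensorMod F G ⟶ Sh hX (fun y => D₁ y + D₂ y) :=
    ((PresheafOfModules.sheafificationAdjunction (R := X.ringCatSheaf)
      (𝟙 X.ringCatSheaf.obj)).homEquiv _ _).symm φ'
  refine ⟨μ, fun U m n a c d hc hd => ?_⟩
  have e : ((PresheafOfModules.sheafificationAdjunction (R := X.ringCatSheaf)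
      (𝟙 X.ringCatSheaf.obj)).homEquiv _ _) μ = φ' := Equiv.apply_symm_apply _ _
  rw [Adjunction.homEquiv_unit] at e
  have e2 := congrArg (fun ψ : (show X.PresheafOfModules from CohB1.tensorPre F G) ⟶
      (PresheafOfModules.restrictScalars (𝟙 X.ringCatSheaf.obj)).obj
        (Sh hX (fun y => D₁ y + D₂ y)).val => (ψ.app (op U)).hom (m ⊗ₜ n)) e
  refine (congrArg (fun w => Sh.val w a) e2).trans ?_
  change coF U m a * coG U n a = c * d
  rw [show coF U m a = c from uF _ c hc, show coG U n a = d from uG _ d hd]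

/-- Facts about `F ⊗ G`: generic rank one with least orders `-(D₁ + D₂)`. -/
theorem exists_tensor_least (hX : Pi1.IsNormalScheme X) (hF : Rep F s D₁) (hG : Rep G t D₂)
    (h₁ : Fin D₁) (h₂ : Fin D₂) :
    ∃ τ : (CohB1.tensorMod F G).presheaf.stalk (genericPoint ↥X),
      (∀ z, ∃ c : X.functionField, z = c • τ) ∧ (∀ c : X.functionField, c • τ = 0 → c = 0) ∧
      (∀ (U : X.Opens) (hU : genericPoint ↥X ∈ U) (m : Γ(F, U)) (n : Γ(G, U)),
        F.presheaf.germ U _ hU m = s → G.presheaf.germ U _ hU n = t →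
        (CohB1.tensorMod F G).presheaf.germ U _ hU (SecTwist.tmul F G U m n) = τ) ∧
      ∀ y, coheight y = 1 → IsLeast (ordSet (CohB1.tensorMod F G) τ y) (-(D₁ y + D₂ y)) := by
  obtain ⟨μ, hμ⟩ := exists_mulHom hX hF hG
  obtain ⟨sE, hE, key⟩ := rep_Sh' hX (Fin.add h₁ h₂)
  let η := genericPoint ↥X
  let T := CohB1.tensorMod F G
  have hμη : ∀ (U : X.Opens) (hU : η ∈ U) (m : Γ(F, U)) (n : Γ(G, U)) (c d : X.functionField),
      F.presheaf.germ U η hU m = c • s → G.presheaf.germ U η hU n = d • t →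
      QCohLib.stalkLinearMap μ η (T.presheaf.germ U η hU (SecTwist.tmul F G U m n)) = (c * d) • sE := by
    intro U hU m n c d hc hd
    rw [QCohLib.stalkLinearMap_apply, QCohLib.stalkHom_germ, key U hU, hμ U m n ⟨η, hU⟩ c d hc hd]
  obtain ⟨A, hA, m₁, hm₁⟩ := F.presheaf.exists_germ_eq s
  obtain ⟨B, hB, n₁, hn₁⟩ := G.presheaf.exists_germ_eq t
  let τ : T.presheaf.stalk η := T.presheaf.germ (A ⊓ B) η ⟨hA, hB⟩ (SecTwist.tmul F G (A ⊓ B)
    (F.presheaf.map (homOfLE (inf_le_left : A ⊓ B ≤ A)).op m₁)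
    (G.presheaf.map (homOfLE (inf_le_right : A ⊓ B ≤ B)).op n₁))
  have hτ : QCohLib.stalkLinearMap μ η τ = sE := by
    refine (hμη (A ⊓ B) ⟨hA, hB⟩ _ _ 1 1 ?_ ?_).trans (by rw [one_mul, one_smul])
    · rw [TopCat.Presheaf.germ_res_apply, one_smul]; exact hm₁
    · rw [TopCat.Presheaf.germ_res_apply, one_smul]; exact hn₁
  have free : ∀ c : X.functionField, c • τ = 0 → c = 0 := fun c h => hE.free c (by
    have h' := congrArg (QCohLib.stalkLinearMap μ η) h
    rwa [map_smul, hτ, map_zero] at h')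
  have tmul_span : ∀ (U : X.Opens) (hU : η ∈ U) (m : Γ(F, U)) (n : Γ(G, U)),
      ∃ c : X.functionField, T.presheaf.germ U η hU (SecTwist.tmul F G U m n) = c • τ := by
    intro U hU m n
    obtain ⟨c, hc⟩ := hF.span (F.presheaf.germ U η hU m)
    obtain ⟨d, hd⟩ := hG.span (G.presheaf.germ U η hU n)
    obtain ⟨Vc, hVc, rc, hrc⟩ := X.presheaf.exists_germ_eq (show X.presheaf.stalk η from c)
    obtain ⟨Vd, hVd, rd, hrd⟩ := X.presheaf.exists_germ_eq (show X.presheaf.stalk η from d)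
    let O₁ := U ⊓ Vc ⊓ Vd ⊓ (A ⊓ B)
    have hη₁ : η ∈ O₁ := ⟨⟨⟨hU, hVc⟩, hVd⟩, hA, hB⟩
    have lU : O₁ ≤ U := inf_le_left.trans (inf_le_left.trans inf_le_left)
    have lc : O₁ ≤ Vc := inf_le_left.trans (inf_le_left.trans inf_le_right)
    have ld : O₁ ≤ Vd := inf_le_left.trans inf_le_right
    have lA : O₁ ≤ A := inf_le_right.trans inf_le_left
    have lB : O₁ ≤ B := inf_le_right.trans inf_le_right
    obtain ⟨O₂, hη₂, i₂, _j₂, em⟩ := F.presheaf.germ_eq η hη₁ hη₁
      (F.presheaf.map (homOfLE lU).op m)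
      (X.presheaf.map (homOfLE lc).op rc • F.presheaf.map (homOfLE lA).op m₁) (by
        rw [QCohLib.germ_smul, TopCat.Presheaf.germ_res_apply, TopCat.Presheaf.germ_res_apply,
          TopCat.Presheaf.germ_res_apply, hrc, hm₁, hc])
    obtain ⟨O₃, hη₃, i₃, _j₃, en⟩ := G.presheaf.germ_eq η hη₂ hη₂
      (G.presheaf.map (homOfLE (i₂.le.trans lU)).op n)
      (X.presheaf.map (homOfLE (i₂.le.trans ld)).op rd • G.presheaf.map (homOfLE (i₂.le.trans lB)).op n₁) (by
        rw [QCohLib.germ_smul, TopCat.Presheaf.germ_res_apply, TopCat.Presheaf.germ_res_apply,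
          TopCat.Presheaf.germ_res_apply, hrd, hn₁, hd])
    have l3 : O₃ ≤ O₁ := i₃.le.trans i₂.le
    have em' : F.presheaf.map (homOfLE (l3.trans lU)).op m =
        X.presheaf.map (homOfLE (l3.trans lc)).op rc • F.presheaf.map (homOfLE (l3.trans lA)).op m₁ := by
      have h := congrArg (F.presheaf.map (homOfLE i₃.le).op) em
      rwa [show i₂ = homOfLE i₂.le from rfl, show _j₂ = homOfLE i₂.le from Subsingleton.elim _ _,
        QCohLib.map_map, QCohLib.map_map, QCohLib.map_map, Scheme.Modules.map_smul,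
        QCohLib.map_map, QCohLib.ring_map_map] at h
    have en' : G.presheaf.map (homOfLE (l3.trans lU)).op n =
        X.presheaf.map (homOfLE (l3.trans ld)).op rd • G.presheaf.map (homOfLE (l3.trans lB)).op n₁ := by
      have h := en
      rwa [show i₃ = homOfLE i₃.le from rfl, show _j₃ = homOfLE i₃.le from Subsingleton.elim _ _,
        QCohLib.map_map, Scheme.Modules.map_smul, QCohLib.map_map, QCohLib.ring_map_map] at h
    refine ⟨c * d, ?_⟩
    have hτ₃ : τ = T.presheaf.germ O₃ η hη₃ (SecTwist.tmul F G O₃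
        (F.presheaf.map (homOfLE (l3.trans lA)).op m₁) (G.presheaf.map (homOfLE (l3.trans lB)).op n₁)) := by
      refine (TopCat.Presheaf.germ_res_apply T.presheaf
        (homOfLE (l3.trans inf_le_right : O₃ ≤ A ⊓ B)) η hη₃ _).symm.trans (congrArg _ ?_)
      refine (ProjCoh.map_tmul_gen F G (l3.trans inf_le_right) _ _).trans ?_
      rw [QCohLib.map_map, QCohLib.map_map]
    rw [← TopCat.Presheaf.germ_res_apply T.presheaf (homOfLE (l3.trans lU)) η hη₃]
    refine (congrArg (T.presheaf.germ O₃ η hη₃)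
      (ProjCoh.map_tmul_gen F G (l3.trans lU) m n)).trans ?_
    rw [em', en', ProjCoh.tmul_smul_right, ProjCoh.tmul_smul_left, ProjCoh.tmul_smul_left]
    refine (congrArg (T.presheaf.germ O₃ η hη₃) (smul_smul _ _ _)).trans ?_
    refine (QCohLib.germ_smul (M := T) O₃ η hη₃ _ _).trans ?_
    rw [map_mul, TopCat.Presheaf.germ_res_apply, TopCat.Presheaf.germ_res_apply, hrc, hrd, hτ₃,
      mul_comm d c]
  have span : ∀ z, ∃ c : X.functionField, z = c • τ := by
    intro z
    obtain ⟨U, hU, σ, rfl⟩ := T.presheaf.exists_germ_eq z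
    obtain ⟨W, hWU, w, hηW, hw⟩ := ProjCoh.exists_res_eq F G σ hU
    rw [← TopCat.Presheaf.germ_res_apply T.presheaf (homOfLE hWU) η hηW, ← hw]
    clear hw
    induction w using TensorProduct.induction_on with
    | zero =>
      refine ⟨0, ?_⟩
      rw [zero_smul]
      exact (congrArg _ (map_zero ((SecTwist.toTensor F G).app (op W)).hom)).trans (map_zero _)
    | tmul a b => exact tmul_span W hηW a b
    | add p q hp hq =>
      obtain ⟨a, ha⟩ := hp
      obtain ⟨b, hb⟩ := hq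
      refine ⟨a + b, ?_⟩
      rw [add_smul, ← ha, ← hb]
      exact (congrArg _ (map_add ((SecTwist.toTensor F G).app (op W)).hom p q)).trans (map_add _ _ _)
  refine ⟨τ, span, free, fun U hU m n hm hn => ?_, fun y hy => ⟨?_, ?_⟩⟩
  · obtain ⟨c, hc⟩ := span (T.presheaf.germ U η hU (SecTwist.tmul F G U m n))
    have h := congrArg (QCohLib.stalkLinearMap μ η) hc
    rw [hμη U hU m n 1 1 (hm.trans (one_smul _ s).symm) (hn.trans (one_smul _ t).symm), map_smul, hτ,
      mul_one] at h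
    rw [← hE.cancel h, one_smul] at hc
    exact hc
  · obtain ⟨v, hv, hv1⟩ := exists_ord_eq hX hy (-D₁ y)
    obtain ⟨w, hw, hw1⟩ := exists_ord_eq hX hy (-D₂ y)
    obtain ⟨a, ha⟩ := (hF.img y v).mpr ((inLat_iff_ge hy v).mpr (Or.inr hv1.ge))
    obtain ⟨b, hb⟩ := (hG.img y w).mpr ((inLat_iff_ge hy w).mpr (Or.inr hw1.ge))
    obtain ⟨Va, hVa, ma, rfl⟩ := F.presheaf.exists_germ_eq a
    obtain ⟨Vb, hVb, nb, rfl⟩ := G.presheaf.exists_germ_eq b
    rw [sp_germ] at ha hb
    let σ : Γ(T, Va ⊓ Vb) := SecTwist.tmul F G (Va ⊓ Vb)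
      (F.presheaf.map (homOfLE (inf_le_left : Va ⊓ Vb ≤ Va)).op ma)
      (G.presheaf.map (homOfLE (inf_le_right : Va ⊓ Vb ≤ Vb)).op nb)
    obtain ⟨e, he⟩ := span (sp T y (T.presheaf.germ (Va ⊓ Vb) y ⟨hVa, hVb⟩ σ))
    refine ⟨_, e, ?_, he, ?_⟩ <;>
    · have h := congrArg (QCohLib.stalkLinearMap μ η) he
      rw [map_smul, hτ, sp_germ, hμη _ _ _ _ v w (by rw [TopCat.Presheaf.germ_res_apply]; exact ha)
        (by rw [TopCat.Presheaf.germ_res_apply]; exact hb)] at h
      rw [← hE.cancel h]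
      first
        | exact mul_ne_zero hv hw
        | rw [Scheme.ord_mul hv hw, hv1, hw1]; ring
  · rintro n ⟨m, e, he0, he, rfl⟩
    have h := sp_stalkHom μ y m
    rw [he, ← QCohLib.stalkLinearMap_apply μ η, map_smul, hτ] at h
    exact ((inLat_iff_ge hy e).mp ((hE.img y e).mp ⟨_, h⟩)).resolve_left he0

/-- The reflexive tensor product, with its rational section. -/
theorem exists_rep_ddual_tensor' (hX : Pi1.IsNormalScheme X) (hF : Rep F s D₁) (hG : Rep G t D₂)
    (h₁ : Fin D₁) (h₂ : Fin D₂) :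
    ∃ w, Rep (RefHull.ddual (CohB1.tensorMod F G)) w (fun y => D₁ y + D₂ y) ∧
      ∀ (U : X.Opens) (hU : genericPoint ↥X ∈ U) (m : Γ(F, U)) (n : Γ(G, U)),
        F.presheaf.germ U _ hU m = s → G.presheaf.germ U _ hU n = t →
        (RefHull.ddual (CohB1.tensorMod F G)).presheaf.germ U _ hU
          ((RefHull.bidualMap (CohB1.tensorMod F G)).app U (SecTwist.tmul F G U m n)) = w := by
  obtain ⟨τ, span, free, hτ, least⟩ := exists_tensor_least hX hF hG h₁ h₂
  have hfin := Fin.neg (Fin.add h₁ h₂)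
  obtain ⟨s', hs', he⟩ := exists_rep_dual_of_least hX span free hfin least
  have hcoh := hs'.isCoh hX hfin
  obtain ⟨w, hw, he'⟩ := hs'.exists_rep_dual hX hcoh
  refine ⟨w, ⟨hw.span, hw.free, hw.inj, fun x c => (hw.img x c).trans
    (InLat.congr fun y _ => neg_neg _)⟩, fun U hU m n hm hn => ?_⟩
  refine (evalStalk_bijective _ _ (QCohLib.isCoh_iff_isFP.mp hcoh) _).1 (LinearMap.ext fun z => ?_)
  obtain ⟨c, rfl⟩ := hs'.span z
  rw [map_smul, map_smul, he', RefHull.evalStalk_germ, RefHull.bidualMap_app_apply,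
    RefHull.bidualAt_apply, hτ U hU m n hm hn, he]

/-- The reflexive tensor product. -/
theorem exists_rep_ddual_tensor (hX : Pi1.IsNormalScheme X) (hF : Rep F s D₁) (hG : Rep G t D₂)
    (h₁ : Fin D₁) (h₂ : Fin D₂) :
    ∃ w, Rep (RefHull.ddual (CohB1.tensorMod F G)) w (fun y => D₁ y + D₂ y) :=
  (exists_rep_ddual_tensor' hX hF hG h₁ h₂).imp fun _ h => h.1

end Groth.Agent.Ref1
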