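import Groth.Prelude.Def_RefPow
import Groth.Agent.Ref1.TensorRep

/-!
# Reflexive powers of `O(D)` with an effective section

* `exists_rep_refPow`: `F^[n] = O(nD)` with rational section the germ of `s^n`;
* `mem_isoLocus_iff`; the degenerate case `s = 0`.
-/

universe u

open CategoryTheory CategoryTheory.Limits AlgebraicGeometry TopologicalSpace Opposite Order

set_option backward.isDefEq.respectTransparency false

namespace Groth.Agent.Ref1

variable {X : Scheme.{u}}

/-- The germ at `x` of the `n`-th power of a section. -/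
noncomputable abbrev powGerm {F : X.Modules} (s : Coh.structureModule X ⟶ F) (n : ℕ) (x : X) :=
  RefPow.sPowGerm s n x

theorem val_sPow_succ {F : X.Modules} (s : Coh.structureModule X ⟶ F) (n : ℕ) (U : X.Opens) :
    SecTwist.val (RefPow.sPow s (n + 1)) U = (RefPow.mulBy s n).app U (SecTwist.val (RefPow.sPow s n) U) :=
  rfl

theorem stalkMapₗ_eq {F G : X.Modules} (φ : F ⟶ G) (x : X) (m : F.presheaf.stalk x) :
    RefHull.stalkMapₗ φ x m = QCohLib.stalkHom φ x m := rfl

theorem stalkHom_one {F : X.Modules} (s : Coh.structureModule X ⟶ F) (x : X) :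
    QCohLib.stalkHom s x (one x) = F.presheaf.germ ⊤ x trivial (SecTwist.val s ⊤) :=
  QCohLib.stalkHom_germ s ⊤ x trivial _

theorem hom_eq_zero_of_val {F : X.Modules} (s : Coh.structureModule X ⟶ F)
    (h : ∀ x : X, F.presheaf.germ ⊤ x trivial (SecTwist.val s ⊤) = 0) : s = 0 := by
  refine Scheme.Modules.hom_ext _ _ fun U => ?_
  ext r
  refine QCohLib.section_ext _ _ fun x hx => ?_
  obtain ⟨a, ha⟩ := unit_stalk_exists x ((Coh.structureModule X).presheaf.germ U x hx r)
  have h1 := (QCohLib.stalkHom_germ s U x hx r).symm.trans (congrArg (QCohLib.stalkHom s x) ha)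
  refine h1.trans ?_
  change QCohLib.stalkLinearMap s x (a • one x) = _
  rw [map_smul, QCohLib.stalkLinearMap_apply, stalkHom_one, h, smul_zero]
  exact (map_zero (F.presheaf.germ U x hx).hom).symm

theorem mulBy_zero_section (F : X.Modules) : ∀ n, RefPow.mulBy (0 : Coh.structureModule X ⟶ F) n = 0
  | 0 => rfl
  | n + 1 => by
    refine Scheme.Modules.hom_ext _ _ fun U => ?_
    ext t
    rw [RefPow.mulBy_succ_app]
    refine Eq.trans (congrArg _ ?_) (map_zero ((RefPow.toRefTensor _ F).app U).hom)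
    change SecTwist.tmul _ F U t 0 = 0
    exact (congrArg _ (TensorProduct.tmul_zero _ _)).trans
      (map_zero ((SecTwist.toTensor _ F).app (op U)).hom)

variable [IsIntegral X] [IsLocallyNoetherian X]

omit [IsIntegral X] [IsLocallyNoetherian X] in
theorem Fin.nsmul {D : X → ℤ} (hD : Fin D) (n : ℕ) : Fin fun y => (n : ℤ) * D y := fun W hW =>
  (hD W hW).subset fun y hy => ⟨hy.1, hy.2.1, fun h => hy.2.2 (by beta_reduce; rw [h, mul_zero])⟩

variable {F : X.Modules} {D : X → ℤ} (s : Coh.structureModule X ⟶ F)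

/-- `F^[n] = O(nD)`, with the germ of `s^n` as rational section. -/
theorem exists_rep_refPow (hX : Pi1.IsNormalScheme X)
    (hF : Rep F (F.presheaf.germ ⊤ (genericPoint ↥X) trivial (SecTwist.val s ⊤)) D) (hD : Fin D) :
    ∀ n : ℕ, Rep (RefPow.refPow F n) (powGerm s n (genericPoint ↥X)) (fun y => (n : ℤ) * D y) := by
  intro n
  induction n with
  | zero =>
    refine ⟨fun z => unit_stalk_exists _ z, fun c hc => unit_stalk_free _ c hc, fun x => ?_,
      fun x c => ?_⟩
    · rw [injective_iff_map_eq_zero]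
      exact fun w hw => sp_unit_injective x w hw
    · rw [inLat_zero_iff hX x c fun _ _ _ => by simp]
      constructor
      · rintro ⟨m, hm⟩
        obtain ⟨a, rfl⟩ := unit_stalk_exists x m
        refine ⟨a, ?_⟩
        have h := (sp_smul (Coh.structureModule X) x a (one x)).symm.trans hm
        rw [sp_one] at h
        exact (unit_stalk_bijective (genericPoint ↥X)).1 h
      · rintro ⟨a, rfl⟩
        refine ⟨a • one x, (sp_smul (Coh.structureModule X) x a (one x)).trans ?_⟩
        rw [sp_one]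
        rfl
  | succ n ih =>
    cases n with
    | zero =>
      refine ⟨hF.span, hF.free, hF.inj, fun x c => (hF.img x c).trans (InLat.congr fun y _ => ?_)⟩
      simp
    | succ n =>
      obtain ⟨w, hw, hmul⟩ := exists_rep_ddual_tensor' hX ih hF (Fin.nsmul hD (n + 1)) hD
      have e : powGerm s (n + 2) (genericPoint ↥X) = w := by
        refine Eq.trans ?_ (hmul ⊤ trivial (SecTwist.val (RefPow.sPow s (n + 1)) ⊤) (SecTwist.val s ⊤)
          rfl rfl)
        exact congrArg _ ((val_sPow_succ s (n + 1) ⊤).trans (RefPow.mulBy_succ_app s n ⊤ _))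
      rw [e]
      refine ⟨hw.span, hw.free, hw.inj, fun x c => (hw.img x c).trans (InLat.congr fun y _ => ?_)⟩
      push_cast
      ring

omit [IsLocallyNoetherian X] in
/-- Multiplication by `s` on the generic stalk. -/
theorem stalkHom_mulBy (n : ℕ) :
    QCohLib.stalkHom (RefPow.mulBy s n) (genericPoint ↥X) (powGerm s n (genericPoint ↥X)) =
      powGerm s (n + 1) (genericPoint ↥X) :=
  (QCohLib.stalkHom_germ _ ⊤ _ trivial _).trans (congrArg _ (val_sPow_succ s n ⊤).symm)

/-- The locus where the section generates is where the divisor vanishes. -/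
theorem ord_eq_zero_of_mem (hX : Pi1.IsNormalScheme X)
    (hF : Rep F (F.presheaf.germ ⊤ (genericPoint ↥X) trivial (SecTwist.val s ⊤)) D)
    {U : X.Opens} (hU : (U : Set X) = RefPow.isoLocus s) {y : X} (hy : y ∈ U) (hy1 : coheight y = 1) :
    D y = 0 := by
  have hb : Function.Bijective (RefHull.stalkMapₗ s y) := by
    rw [← RefPow.mem_isoLocus s y, ← hU]
    exact hy
  have hge : 0 ≤ D y := by
    have h := ((inLat_iff_ge hy1 1).mp ((hF.img y 1).mp ⟨_, (sp_germ (U := ⊤) F y trivial _).trans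
      (one_smul _ _).symm⟩)).resolve_left one_ne_zero
    rw [ord_one] at h
    omega
  obtain ⟨v, hv, hv1⟩ := exists_ord_eq hX hy1 (-D y)
  obtain ⟨m, hm⟩ := (hF.img y v).mpr ((inLat_iff_ge hy1 v).mpr (Or.inr hv1.ge))
  obtain ⟨z, hz⟩ := hb.2 m
  obtain ⟨a, rfl⟩ := unit_stalk_exists y z
  rw [map_smul, stalkMapₗ_eq, stalkHom_one] at hz
  have h2 := congrArg (sp F y) hz
  rw [sp_smul, sp_germ, hm] at h2
  have h3 := hF.cancel h2
  have h4 := ord_algebraMap_nonneg (y := y) (a := a) fun e => hv (by rw [← h3, e, map_zero])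
  rw [h3, hv1] at h4
  omega

/-- Converse: the section generates where the divisor vanishes. -/
theorem mem_isoLocus_of (hX : Pi1.IsNormalScheme X)
    (hF : Rep F (F.presheaf.germ ⊤ (genericPoint ↥X) trivial (SecTwist.val s ⊤)) D) {x : X}
    (h : ∀ y, y ⤳ x → coheight y = 1 → D y = 0) : x ∈ RefPow.isoLocus s := by
  have key : ∀ a : X.presheaf.stalk x, sp F x (RefHull.stalkMapₗ s x (a • one x)) =
      algebraMap (X.presheaf.stalk x) X.functionField a •
        F.presheaf.germ ⊤ (genericPoint ↥X) trivial (SecTwist.val s ⊤) := fun a => by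
    rw [map_smul, stalkMapₗ_eq, stalkHom_one, sp_smul, sp_germ]
  rw [RefPow.mem_isoLocus]
  refine ⟨fun z w hzw => ?_, fun m => ?_⟩
  · obtain ⟨a, rfl⟩ := unit_stalk_exists x z
    obtain ⟨b, rfl⟩ := unit_stalk_exists x w
    have e := congrArg (sp F x) hzw
    rw [key, key] at e
    rw [algebraMap_stalk_injective x (hF.cancel e)]
  · obtain ⟨c, hc⟩ := hF.span (sp F x m)
    obtain ⟨a, rfl⟩ := (inLat_zero_iff hX x c h).mp ((hF.img x c).mp ⟨m, hc⟩)
    exact ⟨a • one x, hF.inj x ((key a).trans hc.symm)⟩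

theorem nonneg_of_rep (hF : Rep F (F.presheaf.germ ⊤ (genericPoint ↥X) trivial (SecTwist.val s ⊤)) D)
    {y : X} (hy1 : coheight y = 1) : 0 ≤ D y := by
  have h := ((inLat_iff_ge hy1 1).mp ((hF.img y 1).mp ⟨_, (sp_germ (U := ⊤) F y trivial _).trans
    (one_smul _ _).symm⟩)).resolve_left one_ne_zero
  rw [ord_one] at h
  omega

/-- For a nonzero section the divisor of its germ. -/
theorem exists_rep_germ (hX : Pi1.IsNormalScheme X) (hF : RefHull.IsRef1 F) (hs : s ≠ 0) :
    ∃ D, Fin D ∧ Rep F (F.presheaf.germ ⊤ (genericPoint ↥X) trivial (SecTwist.val s ⊤)) D := by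
  obtain ⟨t, D₀, hfin, -, h⟩ := exists_rep_of_isRef1 hX hF
  obtain ⟨c, hc⟩ := h.span (F.presheaf.germ ⊤ (genericPoint ↥X) trivial (SecTwist.val s ⊤))
  have hc0 : c ≠ 0 := fun e => hs (hom_eq_zero_of_val s fun x => h.inj x (by
    rw [sp_germ, hc, e, zero_smul, map_zero]))
  rw [hc]
  refine ⟨_, fun W hW => ?_, h.rescale hc0⟩
  refine ((hfin W hW).union (finite_ord_ne_zero hW c)).subset fun y hy => ?_
  by_contra hh
  simp only [Set.mem_union, Set.mem_ofPred_eq, not_or, not_and, not_not] at hh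
  exact hy.2.2 (by rw [hh.1 hy.1 hy.2.1, hh.2 hy.1 hy.2.1]; rfl)

end Groth.Agent.Ref1
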