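import Mathlib.AlgebraicGeometry.Morphisms.Affine
import Groth.Agent.Ref1.Pow

/-!
# When is the locus where a section of a rank one reflexive module generates affine?
-/

universe u

open CategoryTheory CategoryTheory.Limits AlgebraicGeometry TopologicalSpace Opposite Order

set_option backward.isDefEq.respectTransparency false

namespace Groth.Agent.Ref1

variable {X : Scheme.{u}}

theorem isAffineHom_of_local (U : X.Opens)
    (h : ∀ x : X, ∃ V : X.Opens, x ∈ V ∧ IsAffineOpen V ∧ IsAffineOpen (U ⊓ V)) : IsAffineHom U.ι := by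
  choose V hxV hV hUV using h
  refine HasAffineProperty.of_iSup_eq_top (P := @IsAffineHom) (fun x : X => (⟨V x, hV x⟩ : X.affineOpens))
    (top_unique fun x _ => Opens.mem_iSup.mpr ⟨x, hxV x⟩) fun x => ?_
  change IsAffineOpen (U.ι ⁻¹ᵁ V x)
  rw [← U.ι.isAffineOpen_iff_of_isOpenImmersion, Scheme.Hom.image_preimage_eq_opensRange_inf,
    Scheme.Opens.opensRange_ι]
  exact hUV x

/-- An element of `m_x • M_x` comes, up to a function not vanishing at `x`, from `p • Γ(M, V)`. -/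
theorem exists_mem_smul_top {M : X.Modules} [M.IsQuasicoherent] {V : X.Opens} (hV : IsAffineOpen V)
    {x : X} (hx : x ∈ V) {m : M.presheaf.stalk x}
    (hm : m ∈ IsLocalRing.maximalIdeal (X.presheaf.stalk x) •
      (⊤ : Submodule (X.presheaf.stalk x) (M.presheaf.stalk x))) :
    ∃ (f : Γ(X, V)) (w : Γ(M, V)), x ∈ X.basicOpen f ∧
      w ∈ (hV.primeIdealOf ⟨x, hx⟩).asIdeal • (⊤ : Submodule Γ(X, V) Γ(M, V)) ∧
      X.presheaf.germ V x hx f • m = M.presheaf.germ V x hx w := by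
  refine Submodule.smul_induction_on hm (fun a ha z _ => ?_) fun z z' hz hz' => ?_
  · obtain ⟨f₂, w, hf₂, hw⟩ := QCohLib.exists_smul_eq_germ hV x hx z
    let _ : Algebra Γ(X, V) (X.presheaf.stalk x) := (X.presheaf.germ V x hx).hom.toAlgebra
    have hl : IsLocalization.AtPrime (X.presheaf.stalk x) (hV.primeIdealOf ⟨x, hx⟩).asIdeal :=
      hV.isLocalization_stalk ⟨x, hx⟩
    obtain ⟨⟨r, f₁⟩, e⟩ := IsLocalization.surj (hV.primeIdealOf ⟨x, hx⟩).asIdeal.primeCompl a
    have e' : a * X.presheaf.germ V x hx f₁.1 = X.presheaf.germ V x hx r := e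
    have hr : r ∈ (hV.primeIdealOf ⟨x, hx⟩).asIdeal := by
      by_contra hr
      have hu := (X.mem_basicOpen r x hx).mp ((InvExtend.mem_basicOpen_iff hV hx r).mpr hr)
      rw [← e'] at hu
      exact ha (isUnit_of_mul_isUnit_left hu)
    refine ⟨f₁.1 * f₂, r • w, ?_, Submodule.smul_mem_smul hr trivial, ?_⟩
    · rw [X.basicOpen_mul]
      exact ⟨(InvExtend.mem_basicOpen_iff hV hx f₁.1).mpr f₁.2, hf₂⟩
    · rw [QCohLib.germ_smul, ← hw, map_mul, smul_smul, smul_smul, ← e']
      congr 1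
      ring
  · obtain ⟨f, w, hf, hw, e⟩ := hz
    obtain ⟨f', w', hf', hw', e'⟩ := hz'
    refine ⟨f * f', f' • w + f • w', ?_, add_mem (Submodule.smul_mem _ _ hw) (Submodule.smul_mem _ _ hw'), ?_⟩
    · rw [X.basicOpen_mul]
      exact ⟨hf, hf'⟩
    · rw [map_add, QCohLib.germ_smul, QCohLib.germ_smul, ← e, ← e', map_mul, smul_add, smul_smul,
        smul_smul]
      congr 2
      ring

variable [IsIntegral X] [IsLocallyNoetherian X] {F : X.Modules} {D : X → ℤ}
  (s : Coh.structureModule X ⟶ F)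

theorem isAffineHom_of_powGerm_mem (hX : Pi1.IsNormalScheme X) (hD : Fin D)
    (hF : Rep F (F.presheaf.germ ⊤ (genericPoint ↥X) trivial (SecTwist.val s ⊤)) D)
    {U : X.Opens} (hU : (U : Set X) = RefPow.isoLocus s)
    (h : ∀ x : X, x ∉ U → ∃ n : ℕ, 0 < n ∧ powGerm s n x ∈ IsLocalRing.maximalIdeal (X.presheaf.stalk x) •
      (⊤ : Submodule (X.presheaf.stalk x) ((RefPow.refPow F n).presheaf.stalk x))) :
    IsAffineHom U.ι := by
  refine isAffineHom_of_local U fun x => ?_
  obtain ⟨V, hV, hxV, -⟩ := exists_isAffineOpen_mem_and_subset (X := X) (x := x) (U := ⊤) trivial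
  refine ⟨V, hxV, hV, ?_⟩
  let res := X.presheaf.map (homOfLE (inf_le_right : U ⊓ V ≤ V)).op
  let S : Set Γ(X, U ⊓ V) := res '' {f | X.basicOpen f ≤ U}
  refine isAffineOpen_of_isAffineOpen_basicOpen (U ⊓ V) S ?_ ?_
  swap
  · rintro _ ⟨f, hf, rfl⟩
    rw [X.basicOpen_res, inf_eq_right.mpr (le_inf hf (X.basicOpen_le f))]
    exact hV.basicOpen f
  by_contra hS
  obtain ⟨q, hq, hle⟩ := Ideal.exists_le_maximal _ hS
  have hne : ∃ w, w ∈ U ⊓ V := by
    by_contra hne
    have h01 : (1 : Γ(X, U ⊓ V)) = 0 :=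
      TopCat.Presheaf.section_ext X.sheaf (U ⊓ V) _ _ fun w hw => absurd ⟨w, hw⟩ hne
    exact hq.ne_top ((Ideal.eq_top_iff_one q).mpr (h01 ▸ q.zero_mem))
  obtain ⟨w₀, hw₀⟩ := hne
  have : q.IsPrime := hq.isPrime
  let P : PrimeSpectrum Γ(X, V) := ⟨q.comap res.hom, Ideal.IsPrime.comap _⟩
  let x' : X := InvExtend.pt hV P
  have hx' : x' ∈ V := InvExtend.pt_mem hV P
  have hP : (hV.primeIdealOf ⟨x', hx'⟩).asIdeal = q.comap res.hom :=
    congrArg PrimeSpectrum.asIdeal (InvExtend.primeIdealOf_pt hV P)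
  by_cases hxU : x' ∈ U
  · obtain ⟨f, hfU, hxf⟩ := hV.exists_basicOpen_le (V := U) ⟨x', hxU⟩ hx'
    exact (InvExtend.mem_basicOpen_iff hV hx' f).mp hxf
      (hP.symm ▸ hle (Ideal.subset_span ⟨f, hfU, rfl⟩))
  obtain ⟨n, -, hn⟩ := h x' hxU
  have hRep := exists_rep_refPow s hX hF hD n
  have hqc : (RefPow.refPow F n).IsQuasicoherent := (hRep.isCoh hX (Fin.nsmul hD n)).1
  obtain ⟨f, w, hxf, hw, hfw⟩ := exists_mem_smul_top hV hx' hn
  have hη : genericPoint ↥X ∈ U ⊓ V := eta_mem hw₀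
  have hex : ∀ u : Γ(RefPow.refPow F n, V), ∃ b : Γ(X, U ⊓ V),
      (RefPow.refPow F n).presheaf.germ V _ hη.2 u =
        X.presheaf.germ (U ⊓ V) _ hη b • powGerm s n (genericPoint ↥X) := by
    intro u
    obtain ⟨c, hc⟩ := hRep.span ((RefPow.refPow F n).presheaf.germ V _ hη.2 u)
    obtain ⟨b, hb⟩ := exists_section_of_forall_range hw₀ c fun z hz =>
      (inLat_zero_iff hX z c fun y hy hy1 => by
        rw [ord_eq_zero_of_mem s hX hF hU (hy.mem_open U.2 hz.1) hy1, mul_zero]).mp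
        ((hRep.img z c).mp ⟨_, (sp_germ _ z hz.2 u).trans hc⟩)
    exact ⟨b, by rw [hc, hb]⟩
  choose b hb using hex
  have hinj := germ_injective_of_isIntegral X (U := U ⊓ V) _ hη
  have hbadd : ∀ u u', b (u + u') = b u + b u' := fun u u' => hinj (hRep.cancel (by
    rw [map_add, add_smul, ← hb, ← hb, ← hb, map_add]))
  have hbsmul : ∀ r u, b (r • u) = res r * b u := fun r u => hinj (hRep.cancel (by
    rw [map_mul, mul_smul, ← hb, ← hb, TopCat.Presheaf.germ_res_apply, QCohLib.germ_smul]))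
  have hbw : b w ∈ q := by
    refine Submodule.smul_induction_on hw (fun r hr u _ => ?_) fun u u' hu hu' => ?_
    · rw [hbsmul]
      rw [hP] at hr
      exact Ideal.mul_mem_right _ _ hr
    · rw [hbadd]
      exact add_mem hu hu'
  refine (InvExtend.mem_basicOpen_iff hV hx' f).mp hxf (hP.symm ▸ ?_)
  change res f ∈ q
  have e : b w = res f := hinj (hRep.cancel (by
    rw [← hb, TopCat.Presheaf.germ_res_apply, ← sp_germ _ x' hx' w, ← hfw, sp_smul, sp_germ,
      algebraMap_germ]))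
  rwa [← e]

theorem powGerm_mem_of_isAffineHom (hX : Pi1.IsNormalScheme X) (hD : Fin D)
    (hF : Rep F (F.presheaf.germ ⊤ (genericPoint ↥X) trivial (SecTwist.val s ⊤)) D)
    {U : X.Opens} (hU : (U : Set X) = RefPow.isoLocus s) [IsAffineHom U.ι] (x : X) (hx : x ∉ U) :
    ∃ n : ℕ, 0 < n ∧ powGerm s n x ∈ IsLocalRing.maximalIdeal (X.presheaf.stalk x) •
      (⊤ : Submodule (X.presheaf.stalk x) ((RefPow.refPow F n).presheaf.stalk x)) := by
  obtain ⟨V, hV, hxV, -⟩ := exists_isAffineOpen_mem_and_subset (X := X) (x := x) (U := ⊤) trivial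
  have hUV : IsAffineOpen (U ⊓ V) := by
    have := (hV.preimage U.ι).image_of_isOpenImmersion U.ι
    rwa [Scheme.Hom.image_preimage_eq_opensRange_inf, Scheme.Opens.opensRange_ι] at this
  let res := X.presheaf.map (homOfLE (inf_le_right : U ⊓ V ≤ V)).op
  let p := (hV.primeIdealOf ⟨x, hxV⟩).asIdeal
  have hηU : genericPoint ↥X ∈ U := by
    rw [← SetLike.mem_coe, hU]
    exact mem_isoLocus_of s hX hF fun y hy hy1 => absurd hy (not_specializes_eta hy1)
  have hη : genericPoint ↥X ∈ U ⊓ V := ⟨hηU, eta_mem hxV⟩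
  have htop : p.map res.hom = ⊤ := by
    by_contra hne
    obtain ⟨q, hq, hle⟩ := Ideal.exists_le_maximal _ hne
    let z : X := InvExtend.pt hUV ⟨q, hq.isPrime⟩
    have hz : z ∈ U ⊓ V := InvExtend.pt_mem hUV _
    refine hx (((InvExtend.specializes_iff hV hz.2 hxV).mpr fun f hf => ?_).mem_open U.2 hz.1)
    by_contra hfz
    have h1 : z ∈ X.basicOpen (res f) := by
      rw [X.basicOpen_res]
      exact ⟨hz, (InvExtend.mem_basicOpen_iff hV hz.2 f).mpr hfz⟩
    have h2 := (InvExtend.mem_basicOpen_iff hUV hz (res f)).mp h1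
    rw [InvExtend.primeIdealOf_pt] at h2
    exact h2 (hle (Ideal.mem_map_of_mem _ hf))
  have hlift : ∀ b : Γ(X, U ⊓ V), ∃ N : ℕ, ∀ n, N ≤ n →
      ∃ z, sp (RefPow.refPow F n) x z =
        X.presheaf.germ (U ⊓ V) _ hη b • powGerm s n (genericPoint ↥X) := by
    intro b
    let v : X.functionField := X.presheaf.germ (U ⊓ V) (genericPoint ↥X) hη b
    let S := (finite_ord_ne_zero hV v).toFinset
    refine ⟨S.sup fun y => (-Scheme.ord v y).toNat, fun n hn => ?_⟩
    refine ((exists_rep_refPow s hX hF hD n).img x v).mpr fun y hyx hy1 => ?_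
    have hyV : y ∈ V := hyx.mem_open V.2 hxV
    by_cases hv : v = 0
    · exact Or.inl hv
    right
    show -((n : ℤ) * D y) ≤ Scheme.ord v y
    have h0 := nonneg_of_rep s hF hy1
    have h0' : 0 ≤ (n : ℤ) * D y := mul_nonneg (Int.natCast_nonneg n) h0
    by_cases hord : 0 ≤ Scheme.ord v y
    · omega
    have hyU : y ∉ U := fun hyU => hord (by
      have hg : X.presheaf.germ (U ⊓ V) y ⟨hyU, hyV⟩ b ≠ 0 := fun e => hv (by
        change X.presheaf.germ (U ⊓ V) (genericPoint ↥X) hη b = 0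
        rw [← algebraMap_germ (U := U ⊓ V) (x := y) ⟨hyU, hyV⟩ b, e, map_zero])
      have := ord_algebraMap_nonneg hg
      rw [algebraMap_germ] at this
      exact this)
    have hD1 : 1 ≤ D y := by
      by_contra hD1
      refine hyU ?_
      rw [← SetLike.mem_coe, hU]
      exact mem_isoLocus_of s hX hF fun y' hy' hy'1 => by
        rw [eq_of_specializes hy' hy'1 hy1]; omega
    have hyS : y ∈ S := (Set.Finite.mem_toFinset _).mpr ⟨hyV, hy1, by omega⟩
    have h1 : (-Scheme.ord v y).toNat ≤ S.sup fun y => (-Scheme.ord v y).toNat :=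
      Finset.le_sup (f := fun y => (-Scheme.ord v y).toNat) hyS
    have h2 := mul_le_mul_of_nonneg_left hD1 (Int.natCast_nonneg n)
    omega
  have key : ∀ c ∈ p.map res.hom, ∀ b : Γ(X, U ⊓ V), ∃ N : ℕ, ∀ n, N ≤ n →
      ∃ z ∈ IsLocalRing.maximalIdeal (X.presheaf.stalk x) •
        (⊤ : Submodule (X.presheaf.stalk x) ((RefPow.refPow F n).presheaf.stalk x)),
        sp (RefPow.refPow F n) x z =
          X.presheaf.germ (U ⊓ V) _ hη (b * c) • powGerm s n (genericPoint ↥X) := by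
    intro c hc
    induction hc using Submodule.span_induction with
    | mem c hc =>
      obtain ⟨r, hr, rfl⟩ := hc
      intro b
      obtain ⟨N, hN⟩ := hlift b
      refine ⟨N, fun n hn => ?_⟩
      obtain ⟨z, hz⟩ := hN n hn
      have hrm : X.presheaf.germ V x hxV r ∈ IsLocalRing.maximalIdeal (X.presheaf.stalk x) := fun hu =>
        (InvExtend.mem_basicOpen_iff hV hxV r).mp ((X.mem_basicOpen r x hxV).mpr hu) hr
      refine ⟨_, Submodule.smul_mem_smul hrm (Submodule.mem_top (x := z)), ?_⟩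
      rw [sp_smul, algebraMap_germ, hz, ← mul_smul, map_mul, mul_comm]
      congr 2
      exact (TopCat.Presheaf.germ_res_apply X.presheaf _ _ hη r).symm
    | zero =>
      exact fun b => ⟨0, fun n _ => ⟨0, zero_mem _, by rw [map_zero, mul_zero, map_zero, zero_smul]⟩⟩
    | add c c' _ _ ih ih' =>
      intro b
      obtain ⟨N, hN⟩ := ih b
      obtain ⟨N', hN'⟩ := ih' b
      refine ⟨max N N', fun n hn => ?_⟩
      obtain ⟨z, hz, e⟩ := hN n ((le_max_left _ _).trans hn)
      obtain ⟨z', hz', e'⟩ := hN' n ((le_max_right _ _).trans hn)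
      exact ⟨z + z', add_mem hz hz', by rw [map_add, e, e', mul_add, map_add, add_smul]⟩
    | smul a c _ ih =>
      intro b
      obtain ⟨N, hN⟩ := ih (b * a)
      exact ⟨N, fun n hn => by rw [smul_eq_mul, ← mul_assoc]; exact hN n hn⟩
  obtain ⟨N, hN⟩ := key 1 (htop ▸ trivial) 1
  obtain ⟨z, hz, e⟩ := hN (N + 1) (by omega)
  refine ⟨N + 1, by omega, ?_⟩
  rw [mul_one, map_one, one_smul] at e
  have e := e.trans (sp_germ (U := ⊤) (RefPow.refPow F (N + 1)) x trivial _).symm
  exact Eq.subst (motive := (· ∈ _)) ((exists_rep_refPow s hX hF hD (N + 1)).inj x e) hz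

omit [IsIntegral X] [IsLocallyNoetherian X] in
/-- A zero section generates nowhere. -/
theorem eq_bot_of_eq_zero (hs : s = 0) {U : X.Opens} (hU : (U : Set X) = RefPow.isoLocus s) : U = ⊥ := by
  refine Opens.ext (Set.eq_empty_iff_forall_notMem.mpr fun x hx => ?_)
  rw [hU, RefPow.mem_isoLocus] at hx
  have e : RefHull.stalkMapₗ s x (one x) = RefHull.stalkMapₗ s x 0 := by
    rw [stalkMapₗ_eq, hs, QCohLib.stalkHom_zero, map_zero]
  exact one_ne_zero (unit_stalk_free x 1 (by rw [one_smul]; exact hx.1 e))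

end Groth.Agent.Ref1
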