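import Groth.Agent.Ref1.AffineCrit

/-!
# `j_* O_U` is the colimit of the reflexive powers
-/

universe u

open CategoryTheory CategoryTheory.Limits AlgebraicGeometry TopologicalSpace Opposite Order

set_option backward.isDefEq.respectTransparency false

namespace Groth.Agent.Ref1

variable {X : Scheme.{u}}

theorem hom_ext_stalk {M N : X.Modules} (φ ψ : M ⟶ N)
    (h : ∀ (x : X) (m : M.presheaf.stalk x), QCohLib.stalkHom φ x m = QCohLib.stalkHom ψ x m) : φ = ψ := by
  refine Scheme.Modules.hom_ext _ _ fun U => ?_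
  ext r
  refine QCohLib.section_ext _ _ fun x hx => ?_
  exact (QCohLib.stalkHom_germ φ U x hx r).symm.trans ((h x _).trans (QCohLib.stalkHom_germ ψ U x hx r))

variable [IsIntegral X]

/-- A morphism given by coefficients at the generic point. -/
theorem exists_hom_of_coef {M N : X.Modules} {s : M.presheaf.stalk (genericPoint ↥X)}
    {t : N.presheaf.stalk (genericPoint ↥X)}
    (span : ∀ z, ∃ c : X.functionField, z = c • s)
    (free : ∀ c : X.functionField, c • s = 0 → c = 0)
    (inj : ∀ x, Function.Injective (sp N x))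
    (h : ∀ (x : X) (m : M.presheaf.stalk x) (c : X.functionField), sp M x m = c • s →
      ∃ m', sp N x m' = c • t) :
    ∃ φ : M ⟶ N, ∀ (x : X) (m : M.presheaf.stalk x) (c : X.functionField), sp M x m = c • s →
      sp N x (QCohLib.stalkHom φ x m) = c • t := by
  choose co hco using fun (x : X) (m : M.presheaf.stalk x) => span (sp M x m)
  have cu : ∀ x m c, sp M x m = c • s → co x m = c := fun x m c e =>
    sub_eq_zero.mp (free _ (by rw [sub_smul, sub_eq_zero, ← hco, e]))
  choose f hf using fun (x : X) (m : M.presheaf.stalk x) => h x m _ (hco x m)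
  let e : ∀ x : X, RefHull.StalkHom M N x := fun x =>
    { toFun := f x
      map_add' := fun a b => inj x (by
        rw [map_add, hf, hf, hf, cu x (a + b) (co x a + co x b) (by rw [map_add, hco, hco, add_smul]),
          add_smul])
      map_smul' := fun a m => inj x (by
        rw [RingHom.id_apply, sp_smul, hf, hf,
          cu x (a • m) (algebraMap _ _ a * co x m) (by rw [sp_smul, hco, mul_smul]), mul_smul]) }
  obtain ⟨φ, hφ⟩ := exists_hom_of_isLocSect e (fun U V i σ z => by
    obtain ⟨W, hW, n, hn⟩ := N.presheaf.exists_germ_eq (f z.1 (M.presheaf.germ V z.1 z.2 σ))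
    refine ⟨W ⊓ V, ⟨hW, z.2⟩, homOfLE inf_le_right, N.presheaf.map (homOfLE inf_le_left).op n,
      fun y => inj y.1 ?_⟩
    change sp N y.1 (f y.1 _) = _
    rw [hf, TopCat.Presheaf.germ_res_apply, sp_germ, ← sp_germ N z.1 hW n, hn, hf]
    congr 1
    refine cu _ _ _ ?_
    rw [sp_germ, ← hco, sp_germ])
  refine ⟨φ, fun x m c hc => ?_⟩
  rw [hφ]
  change sp N x (f x m) = _
  rw [hf, cu x m c hc]

/-- The direct image of the structure sheaf of an open. -/
noncomputable abbrev pushU (U : X.Opens) : X.Modules :=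
  (Scheme.Modules.pushforward U.ι).obj ((Coh.structureModule X).restrict U.ι)

/-- The restriction map `O_X → j_* O_U`. -/
noncomputable abbrev unitU (U : X.Opens) : Coh.structureModule X ⟶ pushU U :=
  (Scheme.Modules.restrictAdjunction U.ι).unit.app (Coh.structureModule X)

/-- The generic section of `j_* O_U`. -/
noncomputable def tU (U : X.Opens) : (pushU U).presheaf.stalk (genericPoint ↥X) :=
  QCohLib.stalkLinearMap (unitU U) (genericPoint ↥X) (one (genericPoint ↥X))

omit [IsIntegral X] in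
theorem img_mem {U V : X.Opens} {x : X} (hxU : x ∈ U) (hx : x ∈ V) : x ∈ U.ι ''ᵁ (U.ι ⁻¹ᵁ V) := by
  rw [Scheme.Hom.image_preimage_eq_opensRange_inf, Scheme.Opens.opensRange_ι]
  exact ⟨hxU, hx⟩

theorem germ_pushU {U : X.Opens} (hU : genericPoint ↥X ∈ U) {V : X.Opens} (hV : genericPoint ↥X ∈ V)
    (σ : Γ(pushU U, V)) :
    (pushU U).presheaf.germ V (genericPoint ↥X) hV σ =
      X.presheaf.germ (U.ι ''ᵁ (U.ι ⁻¹ᵁ V)) (genericPoint ↥X) (img_mem hU hV)
        (show Γ(X, U.ι ''ᵁ (U.ι ⁻¹ᵁ V)) from σ) • tU U := by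
  let r : Γ(X, U.ι ''ᵁ (U.ι ⁻¹ᵁ V)) := σ
  have hWV : U.ι ''ᵁ (U.ι ⁻¹ᵁ V) ≤ V := U.ι.image_preimage_le V
  have e : (pushU U).presheaf.map (homOfLE hWV).op σ = (unitU U).app (U.ι ''ᵁ (U.ι ⁻¹ᵁ V)) r := by
    rw [show (unitU U).app (U.ι ''ᵁ (U.ι ⁻¹ᵁ V)) = _ from
      Scheme.Modules.restrictAdjunction_unit_app_app U.ι (Coh.structureModule X) _]
    rfl
  rw [← TopCat.Presheaf.germ_res_apply (pushU U).presheaf (homOfLE hWV) _ (img_mem hU hV) σ, e,
    ← QCohLib.stalkHom_germ]
  refine (congrArg (QCohLib.stalkHom (unitU U) _) (germ_unit _ (img_mem hU hV) r)).trans ?_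
  exact map_smul (QCohLib.stalkLinearMap (unitU U) (genericPoint ↥X)) _ _

theorem free_tU {U : X.Opens} (hU : genericPoint ↥X ∈ U) (c : X.functionField) (h : c • tU U = 0) :
    c = 0 := by
  obtain ⟨V, hV, r, rfl⟩ := X.presheaf.exists_germ_eq (show X.presheaf.stalk (genericPoint ↥X) from c)
  have h1 : (pushU U).presheaf.germ V (genericPoint ↥X) hV ((unitU U).app V r) = 0 := by
    rw [← QCohLib.stalkHom_germ]
    refine (congrArg (QCohLib.stalkHom (unitU U) _) (germ_unit _ hV r)).trans ?_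
    exact (map_smul (QCohLib.stalkLinearMap (unitU U) (genericPoint ↥X)) _ _).trans h
  obtain ⟨W, hW, i, _i', e⟩ := (pushU U).presheaf.germ_eq _ hV hV ((unitU U).app V r) 0
    (by rw [h1, map_zero])
  rw [map_zero, show i = homOfLE i.le from rfl, ← QCohLib.app_map] at e
  have hle : U.ι ''ᵁ (U.ι ⁻¹ᵁ W) ≤ V := (U.ι.image_preimage_le W).trans i.le
  have e' : X.presheaf.map (homOfLE hle).op r = 0 := by
    rw [← QCohLib.ring_map_map (U.ι.image_preimage_le W) i.le r]
    exact e
  rw [← TopCat.Presheaf.germ_res_apply X.presheaf (homOfLE hle) _ (img_mem hU hW) r, e', map_zero]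

theorem span_tU {U : X.Opens} (hU : genericPoint ↥X ∈ U)
    (z : (pushU U).presheaf.stalk (genericPoint ↥X)) : ∃ c : X.functionField, z = c • tU U := by
  obtain ⟨V, hV, σ, rfl⟩ := (pushU U).presheaf.exists_germ_eq z
  exact ⟨_, germ_pushU hU hV σ⟩

theorem inj_pushU {U : X.Opens} (hU : genericPoint ↥X ∈ U) (x : X) :
    Function.Injective (sp (pushU U) x) := by
  rw [injective_iff_map_eq_zero]
  intro m hm
  obtain ⟨V, hV, σ, rfl⟩ := (pushU U).presheaf.exists_germ_eq m
  rw [sp_germ, germ_pushU hU (eta_mem hV)] at hm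
  have h0 : (show Γ(X, U.ι ''ᵁ (U.ι ⁻¹ᵁ V)) from σ) = 0 :=
    germ_injective_of_isIntegral X _ (img_mem hU (eta_mem hV))
      ((free_tU hU _ hm).trans (map_zero _).symm)
  have hσ : σ = 0 := h0
  rw [hσ, map_zero]

variable [IsLocallyNoetherian X] {F : X.Modules} {D : X → ℤ} (s : Coh.structureModule X ⟶ F)

theorem img_pushU (hX : Pi1.IsNormalScheme X) (hD : Fin D)
    (hF : Rep F (F.presheaf.germ ⊤ (genericPoint ↥X) trivial (SecTwist.val s ⊤)) D)
    {U : X.Opens} (hU : (U : Set X) = RefPow.isoLocus s) (hη : genericPoint ↥X ∈ U)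
    (x : X) (c : X.functionField) :
    (∃ m, sp (pushU U) x m = c • tU U) ↔ ∃ n : ℕ, InLat (fun y => (n : ℤ) * D y) x c := by
  constructor
  · rintro ⟨m, hm⟩
    obtain ⟨V₀, hV₀, σ, rfl⟩ := (pushU U).presheaf.exists_germ_eq m
    obtain ⟨V, hV, hxV, hVV⟩ := exists_isAffineOpen_mem_and_subset (X := X) (x := x) (U := V₀) hV₀
    rw [sp_germ, germ_pushU hη (eta_mem hV₀)] at hm
    have hc : c = X.presheaf.germ (U.ι ''ᵁ (U.ι ⁻¹ᵁ V₀)) (genericPoint ↥X) (img_mem hη (eta_mem hV₀))
        (show Γ(X, U.ι ''ᵁ (U.ι ⁻¹ᵁ V₀)) from σ) := by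
      refine sub_eq_zero.mp (free_tU hη _ ?_)
      rw [sub_smul, sub_eq_zero]; exact hm.symm
    let S := (finite_ord_ne_zero hV c).toFinset
    refine ⟨S.sup fun y => (-Scheme.ord c y).toNat, fun y hyx hy1 => ?_⟩
    have hyV : y ∈ V := hyx.mem_open V.2 hxV
    by_cases hc0 : c = 0
    · exact Or.inl hc0
    right
    show -(((S.sup fun y => (-Scheme.ord c y).toNat : ℕ) : ℤ) * D y) ≤ Scheme.ord c y
    have h0 := nonneg_of_rep s hF hy1
    have h0' := mul_nonneg (Int.natCast_nonneg (S.sup fun y => (-Scheme.ord c y).toNat)) h0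
    by_cases hord : 0 ≤ Scheme.ord c y
    · omega
    have hyU : y ∉ U := fun hyU => hord (by
      have hy' : y ∈ U.ι ''ᵁ (U.ι ⁻¹ᵁ V₀) := img_mem hyU (hVV hyV)
      have hg : X.presheaf.germ (U.ι ''ᵁ (U.ι ⁻¹ᵁ V₀)) y hy'
          (show Γ(X, U.ι ''ᵁ (U.ι ⁻¹ᵁ V₀)) from σ) ≠ 0 := fun e => hc0 (by
        rw [hc, ← algebraMap_germ (U := U.ι ''ᵁ (U.ι ⁻¹ᵁ V₀)) (x := y) hy', e, map_zero])
      have := ord_algebraMap_nonneg hg
      rw [algebraMap_germ, ← hc] at this
      exact this)
    have hD1 : 1 ≤ D y := by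
      by_contra hD1
      refine hyU ?_
      rw [← SetLike.mem_coe, hU]
      exact mem_isoLocus_of s hX hF fun y' hy' hy'1 => by
        rw [eq_of_specializes hy' hy'1 hy1]; omega
    have h1 : (-Scheme.ord c y).toNat ≤ S.sup fun y => (-Scheme.ord c y).toNat :=
      Finset.le_sup (f := fun y => (-Scheme.ord c y).toNat)
        ((Set.Finite.mem_toFinset _).mpr ⟨hyV, hy1, by omega⟩)
    have h2 := mul_le_mul_of_nonneg_left hD1 (Int.natCast_nonneg (S.sup fun y => (-Scheme.ord c y).toNat))
    omega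
  · rintro ⟨n, hn⟩
    obtain ⟨V, hxV, hV⟩ := exists_nhds_inLat (Fin.nsmul hD n) hn
    obtain ⟨r, hr⟩ := exists_section_of_forall_range (W := U.ι ''ᵁ (U.ι ⁻¹ᵁ V))
      (img_mem hη (eta_mem hxV)) c fun z hz => by
        obtain ⟨w, hw, rfl⟩ := hz
        refine (inLat_zero_iff hX _ c fun y hy hy1 => ?_).mp (hV _ hw)
        rw [ord_eq_zero_of_mem s hX hF hU (hy.mem_open U.2 w.2) hy1, mul_zero]
    refine ⟨(pushU U).presheaf.germ V x hxV (show Γ(pushU U, V) from r), ?_⟩
    rw [sp_germ, germ_pushU hη (eta_mem hxV), ← hr]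

omit [IsLocallyNoetherian X] in
theorem stalk_map_powGerm (n k : ℕ) (h : n ≤ k) :
    QCohLib.stalkHom ((RefPow.diagram F s).map (homOfLE h)) (genericPoint ↥X)
      (powGerm s n (genericPoint ↥X)) = powGerm s k (genericPoint ↥X) := by
  induction k, h using Nat.le_induction with
  | base =>
    rw [show homOfLE (le_refl n) = 𝟙 n from rfl, CategoryTheory.Functor.map_id]
    exact QCohLib.stalkHom_id _ _
  | succ k hk ih =>
    rw [show homOfLE (hk.trans (Nat.le_succ k)) = homOfLE hk ≫ homOfLE (Nat.le_succ k) from rfl,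
      Functor.map_comp, RefPow.diagram_map]
    refine (QCohLib.stalkHom_comp _ _ _ _).trans ?_
    rw [ih]
    exact stalkHom_mulBy s k

theorem exists_colimit (hX : Pi1.IsNormalScheme X) (hD : Fin D)
    (hF : Rep F (F.presheaf.germ ⊤ (genericPoint ↥X) trivial (SecTwist.val s ⊤)) D)
    {U : X.Opens} (hU : (U : Set X) = RefPow.isoLocus s) :
    ∃ ι : RefPow.diagram F s ⟶ (Functor.const ℕ).obj (pushU U),
      ι.app 0 = unitU U ∧ Nonempty (IsColimit (Cocone.mk _ ι)) := by
  have hη : genericPoint ↥X ∈ U := by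
    rw [← SetLike.mem_coe, hU]
    exact mem_isoLocus_of s hX hF fun y hy hy1 => absurd hy (not_specializes_eta hy1)
  have hR := exists_rep_refPow s hX hF hD
  choose leg hleg using fun n : ℕ => exists_hom_of_coef (M := RefPow.refPow F n) (N := pushU U)
    (t := tU U) (hR n).span (hR n).free (inj_pushU hη)
    (fun x m c hc => (img_pushU s hX hD hF hU hη x c).mpr ⟨n, ((hR n).img x c).mp ⟨m, hc⟩⟩)
  have hstep : ∀ n, RefPow.mulBy s n ≫ leg (n + 1) = leg n := fun n => hom_ext_stalk _ _ fun x m => by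
    obtain ⟨c, hc⟩ := (hR n).span (sp _ x m)
    refine inj_pushU hη x ?_
    rw [hleg n x m c hc, QCohLib.stalkHom_comp]
    refine hleg (n + 1) x _ c ?_
    rw [sp_stalkHom, hc, ← QCohLib.stalkLinearMap_apply, map_smul, QCohLib.stalkLinearMap_apply,
      stalkHom_mulBy]
  let ι : RefPow.diagram F s ⟶ (Functor.const ℕ).obj (pushU U) :=
    NatTrans.ofSequence leg fun n => by
      rw [RefPow.diagram_map]
      exact (hstep n).trans (Category.comp_id _).symm
  have hι : ∀ n, ι.app n = leg n := fun n => rfl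
  have hsurj : ∀ (x : X) (z : (pushU U).presheaf.stalk x), ∃ (n : ℕ) (m : (RefPow.refPow F n).presheaf.stalk x)
      (c : X.functionField), sp _ x m = c • powGerm s n (genericPoint ↥X) ∧ sp _ x z = c • tU U := by
    intro x z
    obtain ⟨c, hc⟩ := span_tU hη (sp _ x z)
    obtain ⟨n, hn⟩ := (img_pushU s hX hD hF hU hη x c).mp ⟨z, hc⟩
    obtain ⟨m, hm⟩ := ((hR n).img x c).mpr hn
    exact ⟨n, m, c, hm, hc⟩
  refine ⟨ι, ?_, ⟨?_⟩⟩
  · rw [hι]
    refine hom_ext_stalk _ _ fun x m => inj_pushU hη x ?_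
    obtain ⟨a, rfl⟩ := unit_stalk_exists x m
    rw [hleg 0 x (a • one x) (algebraMap _ _ a)
      ((sp_smul _ x a (one x)).trans (congrArg _ (sp_one x))), ← QCohLib.stalkLinearMap_apply, map_smul,
      sp_smul, QCohLib.stalkLinearMap_apply, sp_stalkHom]
    exact congrArg (algebraMap (X.presheaf.stalk x) X.functionField a • ·)
      (congrArg (QCohLib.stalkLinearMap (unitU U) (genericPoint ↥X)) (sp_one x).symm)
  · have key : ∀ (K : Cocone (RefPow.diagram F s)) (x : X) (n k : ℕ) (_ : n ≤ k)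
        (m : (RefPow.refPow F n).presheaf.stalk x) (m' : (RefPow.refPow F k).presheaf.stalk x)
        (c : X.functionField), sp _ x m = c • powGerm s n (genericPoint ↥X) →
        sp _ x m' = c • powGerm s k (genericPoint ↥X) →
        QCohLib.stalkHom (K.ι.app n) x m = QCohLib.stalkHom (K.ι.app k) x m' := by
      intro K x n k h m m' c hm hm'
      rw [← K.w (homOfLE h)]
      refine (QCohLib.stalkHom_comp _ _ x m).trans (congrArg _ ((hR k).inj x ?_))
      refine (sp_stalkHom _ x m).trans (Eq.trans ?_ hm'.symm)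
      refine (congrArg (QCohLib.stalkLinearMap ((RefPow.diagram F s).map (homOfLE h))
        (genericPoint ↥X)) hm).trans ?_
      refine (map_smul (QCohLib.stalkLinearMap ((RefPow.diagram F s).map (homOfLE h))
        (genericPoint ↥X)) c (powGerm s n (genericPoint ↥X))).trans ?_
      exact congrArg (c • ·) (stalk_map_powGerm s n k h)
    have key' : ∀ (K : Cocone (RefPow.diagram F s)) (x : X) (n k : ℕ)
        (m : (RefPow.refPow F n).presheaf.stalk x) (m' : (RefPow.refPow F k).presheaf.stalk x)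
        (c : X.functionField), sp _ x m = c • powGerm s n (genericPoint ↥X) →
        sp _ x m' = c • powGerm s k (genericPoint ↥X) →
        QCohLib.stalkHom (K.ι.app n) x m = QCohLib.stalkHom (K.ι.app k) x m' := fun K x n k m m' c hm hm' => by
      rcases le_total n k with h | h
      · exact key K x n k h m m' c hm hm'
      · exact (key K x k n h m' m c hm' hm).symm
    choose nz mz cz hmz hcz using hsurj
    have cu : ∀ {a b : X.functionField}, a • tU U = b • tU U → a = b := fun {a b} e =>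
      sub_eq_zero.mp (free_tU hη _ (by rw [sub_smul, sub_eq_zero]; exact e))
    have hex : ∀ K : Cocone (RefPow.diagram F s), ∃ φ : pushU U ⟶ K.pt,
        ∀ (x : X) (z : (pushU U).presheaf.stalk x),
          QCohLib.stalkHom φ x z = QCohLib.stalkHom (K.ι.app (nz x z)) x (mz x z) := by
      intro K
      have hval : ∀ (x : X) (z : (pushU U).presheaf.stalk x) (n : ℕ)
          (m : (RefPow.refPow F n).presheaf.stalk x) (c : X.functionField),
          sp _ x z = c • tU U → sp _ x m = c • powGerm s n (genericPoint ↥X) →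
          QCohLib.stalkHom (K.ι.app (nz x z)) x (mz x z) = QCohLib.stalkHom (K.ι.app n) x m :=
        fun x z n m c hz hm => key' K x _ n _ m c
          ((hmz x z).trans (by rw [cu ((hcz x z).symm.trans hz)])) hm
      have hlift : ∀ (x : X) (z : (pushU U).presheaf.stalk x) (k : ℕ), nz x z ≤ k →
          ∃ m, sp (RefPow.refPow F k) x m = cz x z • powGerm s k (genericPoint ↥X) := fun x z k hk => by
        refine ⟨QCohLib.stalkHom ((RefPow.diagram F s).map (homOfLE hk)) x (mz x z),
          (sp_stalkHom _ x _).trans ?_⟩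
        refine (congrArg (QCohLib.stalkLinearMap ((RefPow.diagram F s).map (homOfLE hk))
          (genericPoint ↥X)) (hmz x z)).trans ?_
        refine (map_smul (QCohLib.stalkLinearMap ((RefPow.diagram F s).map (homOfLE hk))
          (genericPoint ↥X)) (cz x z) (powGerm s (nz x z) (genericPoint ↥X))).trans ?_
        exact congrArg (cz x z • ·) (stalk_map_powGerm s (nz x z) k hk)
      let e : ∀ x : X, RefHull.StalkHom (pushU U) K.pt x := fun x =>
        { toFun := fun z => QCohLib.stalkHom (K.ι.app (nz x z)) x (mz x z)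
          map_add' := fun z w => by
            obtain ⟨m, hm⟩ := hlift x z (max (nz x z) (nz x w)) (le_max_left _ _)
            obtain ⟨m', hm'⟩ := hlift x w (max (nz x z) (nz x w)) (le_max_right _ _)
            rw [hval x (z + w) _ (m + m') (cz x z + cz x w) (by rw [map_add, hcz, hcz, add_smul])
              (by rw [map_add, hm, hm', add_smul]),
              hval x z _ m _ (hcz x z) hm, hval x w _ m' _ (hcz x w) hm']
            exact map_add (QCohLib.stalkHom (K.ι.app _) x).hom m m'
          map_smul' := fun a z => by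
            rw [RingHom.id_apply, hval x (a • z) _ (a • mz x z) (algebraMap _ _ a * cz x z)
              (by rw [sp_smul, hcz, mul_smul]) ((sp_smul _ x a _).trans (by rw [hmz, mul_smul]))]
            exact map_smul (QCohLib.stalkLinearMap (K.ι.app (nz x z)) x) a (mz x z) }
      obtain ⟨φ, hφ⟩ := exists_hom_of_isLocSect e (fun U' V i σ z => by
        obtain ⟨c, hc⟩ := span_tU hη ((pushU U).presheaf.germ V (genericPoint ↥X) (eta_mem z.2) σ)
        obtain ⟨n, hn⟩ := (img_pushU s hX hD hF hU hη z.1 c).mp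
          ⟨_, (sp_germ _ z.1 z.2 σ).trans hc⟩
        obtain ⟨m, hm⟩ := ((hR n).img z.1 c).mpr hn
        obtain ⟨W, hW, σ', rfl⟩ := (RefPow.refPow F n).presheaf.exists_germ_eq m
        refine ⟨W ⊓ V, ⟨hW, z.2⟩, homOfLE inf_le_right,
          (K.ι.app n).app (W ⊓ V) ((RefPow.refPow F n).presheaf.map (homOfLE inf_le_left).op σ'),
          fun y => ?_⟩
        refine (hval y.1 _ n ((RefPow.refPow F n).presheaf.germ W y.1 y.2.1 σ') c
          ((sp_germ _ y.1 y.2.2 σ).trans hc) ?_).trans ?_
        · rw [sp_germ, ← sp_germ _ z.1 hW σ']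
          exact hm
        · rw [← TopCat.Presheaf.germ_res_apply (RefPow.refPow F n).presheaf
            (homOfLE (inf_le_left : W ⊓ V ≤ W)) y.1 y.2 σ']
          exact QCohLib.stalkHom_germ (K.ι.app n) (W ⊓ V) y.1 y.2 _)
      exact ⟨φ, hφ⟩
    choose desc hdesc using hex
    refine { desc := desc, fac := fun K n => hom_ext_stalk _ _ fun x m => ?_, uniq := fun K f hf => ?_ }
    · obtain ⟨c, hc⟩ := (hR n).span (sp _ x m)
      change QCohLib.stalkHom (ι.app n ≫ desc K) x m = _
      refine (QCohLib.stalkHom_comp _ _ x m).trans ((hdesc K x _).trans ?_)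
      refine key' K x _ n _ m c ((hmz x _).trans ?_) hc
      exact congrArg (· • _) (cu ((hcz x _).symm.trans (hleg n x m c hc)))
    · refine hom_ext_stalk _ _ fun x z => ?_
      rw [hdesc K x z, ← hf (nz x z)]
      refine Eq.trans ?_ (QCohLib.stalkHom_comp _ _ x _).symm
      refine congrArg (QCohLib.stalkHom f x) (inj_pushU hη x ?_)
      change _ = sp _ x (QCohLib.stalkHom (ι.app (nz x z)) x (mz x z))
      exact (hcz x z).trans (hleg _ x _ _ (hmz x z)).symm

end Groth.Agent.Ref1
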