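import Groth.Prelude.Def_C1
import Groth.Agent.Ref1.Generic

/-!
# `Cyc.ordAt` along `η ⤳ x` is Mathlib's `Scheme.ord`; the fibre at the generic point is the stalk
-/

universe u

open CategoryTheory AlgebraicGeometry TopologicalSpace Order

namespace Groth.Agent.Ref1

variable {X : Scheme.{u}} [IsIntegral X]

theorem maximalIdeal_eta : IsLocalRing.maximalIdeal (X.presheaf.stalk (genericPoint ↥X)) = ⊥ :=
  IsLocalRing.isField_iff_maximalIdeal_eq.mp (Field.toIsField X.functionField)

theorem secFibre_mk_bijective (L : X.Modules) :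
    Function.Bijective (Submodule.Quotient.mk :
      L.presheaf.stalk (genericPoint ↥X) → Cyc.secFibre L (genericPoint ↥X)) := by
  refine ⟨fun a b h => sub_eq_zero.mp ?_, Submodule.Quotient.mk_surjective _⟩
  have h' := (Submodule.Quotient.eq _).mp h
  rwa [maximalIdeal_eta, Submodule.bot_smul, Submodule.mem_bot] at h'

theorem residue_eta_bijective : Function.Bijective (X.residue (genericPoint ↥X)) :=
  ⟨(X.residue (genericPoint ↥X)).hom.injective,
    Ideal.Quotient.mk_surjective⟩

theorem specMap_eq (x : X) (h : genericPoint ↥X ⤳ x) (a : X.presheaf.stalk x) :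
    Cyc.specMap x (genericPoint ↥X) h a =
      X.residue (genericPoint ↥X) (algebraMap (X.presheaf.stalk x) X.functionField a) := rfl

variable [IsLocallyNoetherian X]

theorem ordAt_eq (hX : Pi1.IsNormalScheme X) {x : X} (hx : coheight x = 1)
    (h : genericPoint ↥X ⤳ x) (φ : X.functionField) :
    Cyc.ordAt x (genericPoint ↥X) h (X.residue (genericPoint ↥X) φ) = Scheme.ord φ x := by
  have := isDVR hX hx
  let R := Cyc.LocQuot x (genericPoint ↥X) h
  let κ := X.residueField (genericPoint ↥X)
  have hk : RingHom.ker (Cyc.specMap x (genericPoint ↥X) h) = ⊥ := by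
    refine (RingHom.injective_iff_ker_eq_bot _).mp fun a b e => ?_
    rw [specMap_eq, specMap_eq] at e
    exact algebraMap_stalk_injective x (residue_eta_bijective.1 e)
  let mk : X.presheaf.stalk x →+* R := Ideal.Quotient.mk _
  have hbij : Function.Bijective mk :=
    ⟨fun a b e => by
      have := Ideal.Quotient.eq.mp e
      rwa [hk, Submodule.mem_bot, sub_eq_zero] at this, Ideal.Quotient.mk_surjective⟩
  let e : X.presheaf.stalk x ≃+* R := RingEquiv.ofBijective mk hbij
  have : IsDomain R := e.symm.injective.isDomain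
  have : IsDiscreteValuationRing R := IsDiscreteValuationRing.RingEquivClass.isDiscreteValuationRing e
  have : IsNoetherianRing R := inferInstance
  have hK1 : Ring.KrullDimLE 1 (X.presheaf.stalk x) := krullDimLE_of_coheight_le hx.le
  have hKR : Ring.KrullDimLE 1 R := inferInstance
  have key : ∀ a, algebraMap R κ (e a) =
      X.residue (genericPoint ↥X) (algebraMap (X.presheaf.stalk x) X.functionField a) := fun a => by
    rw [← specMap_eq x h a]
    rfl
  have : FaithfulSMul R κ := (faithfulSMul_iff_algebraMap_injective R κ).mpr fun a b he => by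
    obtain ⟨a, rfl⟩ := e.surjective a
    obtain ⟨b, rfl⟩ := e.surjective b
    rw [key, key] at he
    rw [algebraMap_stalk_injective x (residue_eta_bijective.1 he)]
  have hfr : IsFractionRing R κ := IsFractionRing.of_field R κ fun z => by
    obtain ⟨ψ, rfl⟩ := residue_eta_bijective.2 z
    obtain ⟨a, b, hb, rfl⟩ := IsFractionRing.div_surjective (A := X.presheaf.stalk x) ψ
    exact ⟨e a, e b, by rw [key, key, map_div₀]⟩
  have hord : ∀ a : X.presheaf.stalk x, a ≠ 0 →
      Ring.ordFrac R (algebraMap R κ (e a)) =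
        Ring.ordFrac (X.presheaf.stalk x) (algebraMap (X.presheaf.stalk x) X.functionField a) := by
    intro a ha
    obtain ⟨ϖ, hϖ⟩ := IsDiscreteValuationRing.exists_irreducible (X.presheaf.stalk x)
    obtain ⟨m, v, rfl⟩ := IsDiscreteValuationRing.eq_unit_mul_pow_irreducible ha hϖ
    have hϖ' : Irreducible (e ϖ) := (MulEquiv.irreducible_iff e.toMulEquiv).mpr hϖ
    rw [map_mul e, map_pow e, map_mul, map_mul, map_pow, map_pow, map_mul, map_mul, map_pow, map_pow,
      Ring.ordFrac_of_isUnit (v.isUnit.map e), Ring.ordFrac_of_isUnit v.isUnit,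
      Ring.ordFrac_irreducible hϖ', Ring.ordFrac_irreducible hϖ]
  rw [Cyc.ordAt, CycAlg.ordFrac, dif_pos ⟨inferInstance, hKR, inferInstance, hfr⟩]
  by_cases hφ : φ = 0
  · subst hφ
    rw [map_zero, Scheme.ord_zero]
    simp only [map_zero]
    rfl
  obtain ⟨a, b, hb, rfl⟩ := IsFractionRing.div_surjective (A := X.presheaf.stalk x) φ
  have hb0 : b ≠ 0 := nonZeroDivisors.ne_zero hb
  have ha0 : a ≠ 0 := fun h => hφ (by simp [h])
  have E : Ring.ordFrac R (X.residue (genericPoint ↥X)
      (algebraMap (X.presheaf.stalk x) X.functionField a /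
        algebraMap (X.presheaf.stalk x) X.functionField b)) =
      Scheme.ordHom x hx (algebraMap (X.presheaf.stalk x) X.functionField a /
        algebraMap (X.presheaf.stalk x) X.functionField b) := by
    rw [map_div₀, ← key, ← key, map_div₀, hord a ha0, hord b hb0, map_div₀,
      ← ordHom_eq_ordFrac hx, ← ordHom_eq_ordFrac hx]
  refine Eq.trans (congrArg _ E) ?_
  rw [Scheme.ord_eq_unzero_ordHom hx hφ]
  conv_lhs => rw [← WithZero.coe_unzero ((map_ne_zero (Scheme.ordHom x hx)).mpr hφ)]
  rfl

end Groth.Agent.Ref1
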