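import Groth.Agent.Ref1.Sh
import Groth.Agent.Ref1.SecOrd

/-!
# Modules represented by a divisor

* `Rep F s D`: `F_η = K·s`, `F_x → F_η` injective with image `L_D(x)·s`;
* `Rep.exists_iso`, `Rep.transport`, `Rep.rescale`, `Rep.unique`;
* `rep_Sh`; `Rep.secOrdAt_eq`.
-/

universe u

open CategoryTheory CategoryTheory.Limits AlgebraicGeometry TopologicalSpace Opposite Order

set_option backward.isDefEq.respectTransparency false

namespace Groth.Agent.Ref1

variable {X : Scheme.{u}} [IsIntegral X] [IsLocallyNoetherian X]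

/-- `F` is `O(D)` with rational section `s`. -/
structure Rep (F : X.Modules) (s : F.presheaf.stalk (genericPoint ↥X)) (D : X → ℤ) : Prop where
  span : ∀ z : F.presheaf.stalk (genericPoint ↥X), ∃ c : X.functionField, z = c • s
  free : ∀ c : X.functionField, c • s = 0 → c = 0
  inj : ∀ x, Function.Injective (sp F x)
  img : ∀ (x : X) (c : X.functionField), (∃ m, sp F x m = c • s) ↔ InLat D x c

variable {F G : X.Modules} {s : F.presheaf.stalk (genericPoint ↥X)}
  {t : G.presheaf.stalk (genericPoint ↥X)} {D D' : X → ℤ}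

theorem Rep.cancel (h : Rep F s D) {a b : X.functionField} (e : a • s = b • s) : a = b :=
  sub_eq_zero.mp (h.free _ (by rw [sub_smul, sub_eq_zero]; exact e))

omit [IsLocallyNoetherian X] in
/-- The only codimension one generisation of a codimension one point is itself. -/
theorem eq_of_specializes {y' y : X} (h : y' ⤳ y) (hy' : coheight y' = 1) (hy : coheight y = 1) :
    y' = y := by
  obtain ⟨W, hW, hyW, -⟩ := exists_isAffineOpen_mem_and_subset (X := X) (x := y) (U := ⊤) trivial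
  have hy'W : y' ∈ W := h.mem_open W.2 hyW
  have hh : ∀ z (hz : z ∈ W), coheight z = 1 → (hW.primeIdealOf ⟨z, hz⟩).asIdeal.height = 1 := by
    intro z hz hz1
    let _ : Algebra Γ(X, W) (X.presheaf.stalk z) := (X.presheaf.germ W z hz).hom.toAlgebra
    have hl : IsLocalization.AtPrime (X.presheaf.stalk z) (hW.primeIdealOf ⟨z, hz⟩).asIdeal :=
      hW.isLocalization_stalk ⟨z, hz⟩
    have e := IsLocalization.AtPrime.ringKrullDim_eq_height (hW.primeIdealOf ⟨z, hz⟩).asIdeal
      (X.presheaf.stalk z)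
    rw [ringKrullDim_stalk_eq_coheight, hz1] at e
    exact_mod_cast e.symm
  have hle := (InvExtend.specializes_iff hW hyW hy'W).mp h
  have hge : (hW.primeIdealOf ⟨y, hyW⟩).asIdeal ≤ (hW.primeIdealOf ⟨y', hy'W⟩).asIdeal := by
    by_contra hn
    have hlt := lt_of_le_not_ge hle hn
    have : (hW.primeIdealOf ⟨y', hy'W⟩).asIdeal.FiniteHeight :=
      (Ideal.finiteHeight_iff _).mpr (Or.inr (by rw [hh y' hy'W hy']; exact ENat.one_ne_top))
    have := Ideal.height_strict_mono_of_isPrime hlt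
    rw [hh y' hy'W hy', hh y hyW hy] at this
    exact lt_irrefl _ this
  exact (h.antisymm ((InvExtend.specializes_iff hW hy'W hyW).mpr hge)).eq

theorem inLat_iff_ge {y : X} (hy : coheight y = 1) (c : X.functionField) : InLat D y c ↔ Ge D y c :=
  ⟨fun h => h y specializes_rfl hy, fun h _ h' hy' => eq_of_specializes h' hy' hy ▸ h⟩

theorem InLat.congr {x : X} {c : X.functionField} (hD : ∀ y, coheight y = 1 → D y = D' y) :
    InLat D x c ↔ InLat D' x c := by
  refine forall_congr' fun y => imp_congr_right fun _ => imp_congr_right fun hy => ?_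
  rw [Ge, Ge, hD y hy]

/-- Two modules with the same divisor are isomorphic. -/
theorem Rep.exists_iso (hF : Rep F s D) (hG : Rep G t D') (hD : ∀ y, coheight y = 1 → D y = D' y) :
    Nonempty (F ≅ G) := by
  have H : ∀ (x : X) (m : F.presheaf.stalk x), ∃ m' : G.presheaf.stalk x, ∀ c : X.functionField,
      sp F x m = c • s → sp G x m' = c • t := by
    intro x m
    obtain ⟨c, hc⟩ := hF.span (sp F x m)
    obtain ⟨m', hm'⟩ := (hG.img x c).mpr ((InLat.congr hD).mp ((hF.img x c).mp ⟨m, hc⟩))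
    exact ⟨m', fun c' hc' => by rw [hm', hF.cancel (hc'.symm.trans hc)]⟩
  choose f hf using H
  let e : ∀ x : X, RefHull.StalkHom F G x := fun x =>
    { toFun := f x
      map_add' := fun a b => hG.inj x (by
        obtain ⟨ca, ha⟩ := hF.span (sp F x a)
        obtain ⟨cb, hb⟩ := hF.span (sp F x b)
        rw [map_add, hf x a ca ha, hf x b cb hb,
          hf x (a + b) (ca + cb) (by rw [map_add, ha, hb, add_smul]), add_smul])
      map_smul' := fun a m => hG.inj x (by
        obtain ⟨c, hc⟩ := hF.span (sp F x m)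
        rw [RingHom.id_apply, sp_smul, hf x m c hc,
          hf x (a • m) (algebraMap _ _ a * c) (by rw [sp_smul, hc, mul_smul]), mul_smul]) }
  refine exists_iso_of_isLocSect e (fun U V i σ z => ?_) fun x => ⟨fun a b hab => ?_, fun m' => ?_⟩
  · obtain ⟨W, hW, n, hn⟩ := G.presheaf.exists_germ_eq (f z.1 (F.presheaf.germ V z.1 z.2 σ))
    refine ⟨W ⊓ V, ⟨hW, z.2⟩, homOfLE inf_le_right, G.presheaf.map (homOfLE inf_le_left).op n,
      fun y => hG.inj y.1 ?_⟩
    obtain ⟨c, hc⟩ := hF.span (F.presheaf.germ V (genericPoint ↥X) (eta_mem z.2) σ)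
    change sp G y.1 (f y.1 _) = _
    rw [hf y.1 _ c (by rw [sp_germ]; exact hc), TopCat.Presheaf.germ_res_apply, sp_germ,
      ← sp_germ G z.1 hW n, hn, hf z.1 _ c (by rw [sp_germ]; exact hc)]
  · obtain ⟨ca, ha⟩ := hF.span (sp F x a)
    obtain ⟨cb, hb⟩ := hF.span (sp F x b)
    have h' := congrArg (sp G x) hab
    change sp G x (f x a) = sp G x (f x b) at h'
    rw [hf x a ca ha, hf x b cb hb] at h'
    exact hF.inj x (by rw [ha, hb, hG.cancel h'])
  · obtain ⟨c, hc⟩ := hG.span (sp G x m')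
    obtain ⟨m, hm⟩ := (hF.img x c).mpr ((InLat.congr hD).mpr ((hG.img x c).mp ⟨m', hc⟩))
    exact ⟨m, hG.inj x ((hf x m c hm).trans hc.symm)⟩

/-- Transport along an isomorphism. -/
theorem Rep.transport (hF : Rep F s D) (φ : F ≅ G) :
    Rep G (QCohLib.stalkLinearMap φ.hom (genericPoint ↥X) s) D := by
  have hb : ∀ x, Function.Bijective (QCohLib.stalkHom φ.hom x) :=
    (QCohLib.isIso_iff_stalk_bijective φ.hom).mp inferInstance
  refine ⟨fun z => ?_, fun c hc => ?_, fun x a b hab => ?_, fun x c => ?_⟩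
  · obtain ⟨w, rfl⟩ := (hb _).2 z
    obtain ⟨c, rfl⟩ := hF.span w
    exact ⟨c, map_smul (QCohLib.stalkLinearMap φ.hom _) c s⟩
  · exact hF.free c ((hb _).1 ((map_smul (QCohLib.stalkLinearMap φ.hom _) c s).trans
      (hc.trans (map_zero _).symm)))
  · obtain ⟨a, rfl⟩ := (hb x).2 a
    obtain ⟨b, rfl⟩ := (hb x).2 b
    rw [sp_stalkHom, sp_stalkHom] at hab
    exact congrArg _ (hF.inj x ((hb _).1 hab))
  · refine Iff.trans ?_ (hF.img x c)
    constructor
    · rintro ⟨m, hm⟩
      obtain ⟨m, rfl⟩ := (hb x).2 m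
      rw [sp_stalkHom, ← map_smul] at hm
      exact ⟨m, (hb _).1 hm⟩
    · rintro ⟨m, hm⟩
      exact ⟨_, by rw [sp_stalkHom, hm, ← map_smul]; rfl⟩

/-- Changing the rational section. -/
theorem Rep.rescale (hF : Rep F s D) {a : X.functionField} (ha : a ≠ 0) :
    Rep F (a • s) (fun y => D y + Scheme.ord a y) := by
  refine ⟨fun z => ?_, fun c hc => ?_, hF.inj, fun x c => ?_⟩
  · obtain ⟨c, rfl⟩ := hF.span z
    exact ⟨c / a, by rw [← mul_smul, div_mul_cancel₀ _ ha]⟩
  · rw [← mul_smul] at hc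
    exact (mul_eq_zero.mp (hF.free _ hc)).resolve_right ha
  · rw [← mul_smul, hF.img x (c * a)]
    refine forall_congr' fun y => imp_congr_right fun _ => imp_congr_right fun hy => ?_
    by_cases hc : c = 0
    · exact ⟨fun _ => Or.inl hc, fun _ => Or.inl (by rw [hc, zero_mul])⟩
    simp only [Ge, mul_ne_zero hc ha, hc, false_or, Scheme.ord_mul hc ha]
    omega

/-- The divisor is determined by the section. -/
theorem Rep.unique (hX : Pi1.IsNormalScheme X) (hF : Rep F s D) (hF' : Rep F s D') {y : X}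
    (hy : coheight y = 1) : D y = D' y := by
  have key : ∀ {A B : X → ℤ}, Rep F s A → Rep F s B → -B y ≤ -A y := by
    intro A B hA hB
    obtain ⟨v, hv, hv1⟩ := exists_ord_eq hX hy (-A y)
    have h := (hB.img y v).mp ((hA.img y v).mpr ((inLat_iff_ge hy v).mpr (Or.inr hv1.ge)))
    exact hv1 ▸ ((inLat_iff_ge hy v).mp h).resolve_left hv
  have := key hF hF'
  have := key hF' hF
  omega

/-- The order of a rational section. -/
theorem Rep.secOrdAt_eq (hX : Pi1.IsNormalScheme X) (hF : Rep F s D) {c : X.functionField}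
    (hc : c ≠ 0) {x : X} (hx : coheight x = 1) (h : genericPoint ↥X ⤳ x) :
    Cyc.secOrdAt F (genericPoint ↥X) x h (Submodule.Quotient.mk (c • s)) = Scheme.ord c x + D x := by
  obtain ⟨v, hv, hv1⟩ := exists_ord_eq hX hx (-D x)
  obtain ⟨m, hm⟩ := (hF.img x v).mpr ((inLat_iff_ge hx v).mpr (Or.inr hv1.ge))
  have ht : ∃ t : F.presheaf.stalk x, Submodule.span (X.presheaf.stalk x) {t} = ⊤ := by
    refine ⟨m, eq_top_iff.mpr fun m' _ => ?_⟩
    obtain ⟨w, hw⟩ := hF.span (sp F x m')
    by_cases hw0 : w = 0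
    · rw [show m' = 0 from hF.inj x (by rw [hw, hw0, zero_smul, map_zero])]
      exact zero_mem _
    have hge := ((inLat_iff_ge hx w).mp ((hF.img x w).mp ⟨m', hw⟩)).resolve_left hw0
    obtain ⟨a, ha⟩ := mem_range_of_ord_nonneg hX hx (div_ne_zero hw0 hv)
      (by rw [ord_div hw0 hv]; omega)
    refine Submodule.mem_span_singleton.mpr ⟨a, hF.inj x ?_⟩
    rw [sp_smul, hm, hw, ← mul_smul, ha, div_mul_cancel₀ _ hv]
  rw [Cyc.secOrdAt, dif_pos ht]
  obtain ⟨w, hw⟩ := hF.span (sp F x (Classical.choose ht))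
  have hspan := Classical.choose_spec ht
  obtain ⟨a, ha⟩ := Submodule.mem_span_singleton.mp (eq_top_iff.mp hspan (x := m) trivial)
  have hvw : v = algebraMap (X.presheaf.stalk x) X.functionField a * w := by
    apply hF.cancel
    rw [← hm, ← ha, sp_smul, hw, mul_smul]
  have hw0 : w ≠ 0 := fun e => hv (by rw [hvw, e, mul_zero])
  have ha0 : a ≠ 0 := fun e => hv (by rw [hvw, e, map_zero, zero_mul])
  have hge := ((inLat_iff_ge hx w).mp ((hF.img x w).mp ⟨_, hw⟩)).resolve_left hw0
  have hle : Scheme.ord w x = -D x := by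
    have h2 := ord_algebraMap_nonneg (y := x) ha0
    rw [hvw, Scheme.ord_mul ((map_ne_zero_iff _ (algebraMap_stalk_injective x)).mpr ha0) hw0] at hv1
    omega
  have hst : (F.presheaf.stalkSpecializes h) (Classical.choose ht) = w • s := hw
  have hφ : ∃ φ : X.presheaf.stalk (genericPoint ↥X),
      (Submodule.Quotient.mk (c • s) : Cyc.secFibre F (genericPoint ↥X)) =
        φ • (Submodule.Quotient.mk ((F.presheaf.stalkSpecializes h) (Classical.choose ht)) :
          Cyc.secFibre F (genericPoint ↥X)) := by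
    refine ⟨c / w, ?_⟩
    rw [hst, ← Submodule.Quotient.mk_smul]
    congr 1
    rw [← mul_smul, div_mul_cancel₀ _ hw0]
  rw [dif_pos hφ, ordAt_eq hX hx]
  have hsp := Classical.choose_spec hφ
  rw [← Submodule.Quotient.mk_smul] at hsp
  have h' := (secFibre_mk_bijective F).1 hsp
  have hcw := hF.cancel
    ((h'.trans (congrArg (Classical.choose hφ • ·) hst)).trans (mul_smul _ _ _).symm)
  have hφ0 : Classical.choose hφ ≠ 0 := fun e => hc (by rw [hcw, e, zero_mul])
  have hm2 := Scheme.ord_mul (x := x) hφ0 hw0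
  rw [← hcw] at hm2
  omega

omit [IsLocallyNoetherian X] in
/-- A nonempty open where the divisor vanishes. -/
theorem exists_open_eq_zero (hD : Fin D) :
    ∃ U : X.Opens, genericPoint ↥X ∈ U ∧ ∀ y ∈ U, coheight y = 1 → D y = 0 := by
  obtain ⟨W, hW, hηW, -⟩ :=
    exists_isAffineOpen_mem_and_subset (X := X) (x := genericPoint ↥X) (U := ⊤) trivial
  obtain ⟨V, hηV, hV⟩ := exists_open_avoiding (hD W hW) (x := genericPoint ↥X)
    fun y hy => not_specializes_eta hy.2.1
  refine ⟨W ⊓ V, ⟨hηW, hηV⟩, fun y hy hy1 => ?_⟩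
  by_contra h
  exact hV y ⟨hy.1, hy1, h⟩ hy.2

/-- `O(D)` is represented by `D`; germs at the generic point are the values. -/
theorem rep_Sh' (hX : Pi1.IsNormalScheme X) (hD : Fin D) :
    ∃ s, Rep (Sh hX D) s D ∧ ∀ (U : X.Opens) (hU : genericPoint ↥X ∈ U) (f : Γ(Sh hX D, U)),
      (Sh hX D).presheaf.germ U (genericPoint ↥X) hU f = Sh.val f ⟨_, hU⟩ • s := by
  obtain ⟨U₀, hη₀, h0⟩ := exists_open_eq_zero hD
  have h1 : ∀ y ∈ U₀, coheight y = 1 → Ge D y 1 := fun y hy hy1 =>
    Or.inr (by rw [ord_one, h0 y hy hy1]; simp)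
  let one' : Γ(Sh hX D, U₀) := Sh.mk hX 1 (inLat_mk_of_forall _ h1)
  let s := (Sh hX D).presheaf.germ U₀ (genericPoint ↥X) hη₀ one'
  have key : ∀ (U : X.Opens) (hU : genericPoint ↥X ∈ U) (f : Γ(Sh hX D, U)),
      (Sh hX D).presheaf.germ U (genericPoint ↥X) hU f = Sh.val f ⟨_, hU⟩ • s := by
    intro U hU f
    obtain ⟨V, hV, r, hr⟩ := X.presheaf.exists_germ_eq
      (show X.presheaf.stalk (genericPoint ↥X) from Sh.val f ⟨_, hU⟩)
    let O := U ⊓ (U₀ ⊓ V)
    have hO : genericPoint ↥X ∈ O := ⟨hU, hη₀, hV⟩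
    have e : (Sh hX D).presheaf.map (homOfLE (inf_le_left : O ≤ U)).op f =
        X.presheaf.map (homOfLE (inf_le_right.trans inf_le_right : O ≤ V)).op r •
          (Sh hX D).presheaf.map (homOfLE (inf_le_right.trans inf_le_left : O ≤ U₀)).op one' := by
      refine Sh.ext _ _ fun a => ?_
      rw [Sh.val_smul', Sh.val_map, Sh.val_map, Sh.val_mk, mul_one, TopCat.Presheaf.germ_res_apply,
        hr]
      exact Sh.const f _ _
    have e' := congrArg ((Sh hX D).presheaf.germ O _ hO) e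
    rw [TopCat.Presheaf.germ_res_apply, QCohLib.germ_smul, TopCat.Presheaf.germ_res_apply,
      TopCat.Presheaf.germ_res_apply, hr] at e'
    exact e'
  have free : ∀ c : X.functionField, c • s = 0 → c = 0 := by
    intro c hc
    obtain ⟨V, hV, r, rfl⟩ := X.presheaf.exists_germ_eq (show X.presheaf.stalk (genericPoint ↥X) from c)
    let O := U₀ ⊓ V
    have hO : genericPoint ↥X ∈ O := ⟨hη₀, hV⟩
    let g := X.presheaf.map (homOfLE (inf_le_right : O ≤ V)).op r •
      (Sh hX D).presheaf.map (homOfLE (inf_le_left : O ≤ U₀)).op one'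
    have hg : (Sh hX D).presheaf.germ O _ hO g = 0 := by
      rw [QCohLib.germ_smul, TopCat.Presheaf.germ_res_apply, TopCat.Presheaf.germ_res_apply]
      exact hc
    obtain ⟨O', hηO', i, _i', e⟩ := (Sh hX D).presheaf.germ_eq _ hO hO g 0 (by rw [hg, map_zero])
    rw [map_zero] at e
    have := congrArg (fun k => Sh.val k ⟨_, hηO'⟩) e
    change Sh.val g ⟨_, hO⟩ = 0 at this
    rwa [Sh.val_smul', Sh.val_map, Sh.val_mk, mul_one, TopCat.Presheaf.germ_res_apply] at this
  refine ⟨s, ⟨fun z => ?_, free, fun x => ?_, fun x c => ?_⟩, key⟩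
  · obtain ⟨U, hU, f, rfl⟩ := (Sh hX D).presheaf.exists_germ_eq z
    exact ⟨_, key U hU f⟩
  · rw [injective_iff_map_eq_zero]
    intro m hm
    obtain ⟨U, hU, f, rfl⟩ := (Sh hX D).presheaf.exists_germ_eq m
    rw [sp_germ, key] at hm
    have hf : f = 0 := Sh.ext _ _ fun a => by
      rw [Sh.val_zero, Sh.const f a ⟨_, eta_mem hU⟩, free _ hm]
    rw [hf, map_zero]
  · constructor
    · rintro ⟨m, hm⟩
      obtain ⟨U, hU, f, rfl⟩ := (Sh hX D).presheaf.exists_germ_eq m
      rw [sp_germ, key] at hm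
      have hcf : Sh.val f ⟨_, eta_mem hU⟩ = c :=
        sub_eq_zero.mp (free _ (by rw [sub_smul, sub_eq_zero]; exact hm))
      rw [← hcf, ← Sh.const f ⟨x, hU⟩ ⟨_, eta_mem hU⟩]
      exact Sh.inLat f ⟨x, hU⟩
    · intro h
      obtain ⟨V, hxV, hV⟩ := exists_nhds_inLat hD h
      refine ⟨(Sh hX D).presheaf.germ V x hxV (Sh.mk hX c hV), ?_⟩
      rw [sp_germ, key]
      rfl

/-- `O(D)` is represented by `D`. -/
theorem rep_Sh (hX : Pi1.IsNormalScheme X) (hD : Fin D) : ∃ s, Rep (Sh hX D) s D :=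
  (rep_Sh' hX hD).imp fun _ h => h.1

end Groth.Agent.Ref1
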