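import Groth.Agent.Ref1.Stalks
import Groth.Agent.Ref1.Rep

/-!
# The dual of a coherent module of generic rank one is `O(D)`

* `exists_rep_dual`: the dual of `H` is represented by the divisor of least orders of `H`;
* `Rep.bijective_of_hom`.
-/

universe u

open CategoryTheory CategoryTheory.Limits AlgebraicGeometry TopologicalSpace Opposite Order

set_option backward.isDefEq.respectTransparency false

namespace Groth.Agent.Ref1

variable {X : Scheme.{u}} [IsIntegral X] [IsLocallyNoetherian X]

/-- The orders at `y` of the coefficients of the elements of `H_y`. -/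
def ordSet (H : X.Modules) (s₀ : H.presheaf.stalk (genericPoint ↥X)) (y : X) : Set ℤ :=
  {n | ∃ (m : H.presheaf.stalk y) (d : X.functionField),
    d ≠ 0 ∧ sp H y m = d • s₀ ∧ Scheme.ord d y = n}

omit [IsLocallyNoetherian X] in
theorem sp_unit_injective (x : X) (w : (Coh.structureModule X).presheaf.stalk x)
    (h : sp (Coh.structureModule X) x w = 0) : w = 0 := by
  obtain ⟨a, rfl⟩ := unit_stalk_exists x w
  rw [sp_smul, sp_one] at h
  rw [(map_eq_zero_iff _ (algebraMap_stalk_injective x)).mp (unit_stalk_free _ _ h), zero_smul]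

theorem ge_coef_of_gens {H : X.Modules} [H.IsQuasicoherent]
    (hX : Pi1.IsNormalScheme X) {s₀ : H.presheaf.stalk (genericPoint ↥X)}
    (free : ∀ c : X.functionField, c • s₀ = 0 → c = 0)
    {W : X.Opens} (hW : IsAffineOpen W) {ι : Type*} [Fintype ι] (g : ι → Γ(H, W))
    (hg : ∀ s : Γ(H, W), ∃ r : ι → Γ(X, W), s = ∑ k, r k • g k)
    {y : X} (hy : y ∈ W) (hy1 : coheight y = 1) (d : ι → X.functionField)
    (hd : ∀ k, sp H y (H.presheaf.germ W y hy (g k)) = d k • s₀)
    (n : ℤ) (hn : ∀ k, Ge (fun _ => -n) y (d k))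
    (m : H.presheaf.stalk y) (e : X.functionField) (he : sp H y m = e • s₀) :
    Ge (fun _ => -n) y e := by
  obtain ⟨f, s, hyf, hfs⟩ := QCohLib.exists_smul_eq_germ hW y hy m
  obtain ⟨r, rfl⟩ := hg s
  obtain ⟨fu, hfu⟩ := (X.mem_basicOpen f y hy).mp hyf
  have hsum : algebraMap _ X.functionField (X.presheaf.germ W y hy f) * e =
      ∑ k, algebraMap _ X.functionField (X.presheaf.germ W y hy (r k)) * d k := by
    refine sub_eq_zero.mp (free _ ?_)
    rw [sub_smul, sub_eq_zero, Finset.sum_smul, mul_smul, ← he, ← sp_smul, hfs, map_sum, map_sum]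
    exact Finset.sum_congr rfl fun k _ => by rw [QCohLib.germ_smul, sp_smul, hd k, mul_smul]
  have hge : Ge (fun _ => -n) y
      (algebraMap _ X.functionField (X.presheaf.germ W y hy f) * e) := by
    rw [hsum]
    exact Finset.sum_induction _ (Ge (fun _ => -n) y) (fun _ _ ha hb => ha.add hX hy1 hb)
      (Or.inl rfl) fun k _ => (hn k).smul _
  have := hge.smul (↑fu⁻¹ : X.presheaf.stalk y)
  rwa [← mul_assoc, ← map_mul, ← hfu, Units.inv_mul, map_one, one_mul] at this

/-- Generators of the sections of a coherent module on an affine open, with their coefficients. -/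
theorem exists_gens {H : X.Modules} (hH : Coh.IsCoh H)
    {s₀ : H.presheaf.stalk (genericPoint ↥X)}
    (span : ∀ z : H.presheaf.stalk (genericPoint ↥X), ∃ c : X.functionField, z = c • s₀)
    {W : X.Opens} (hW : IsAffineOpen W) :
    ∃ (k : ℕ) (g : _root_.Fin k → Γ(H, W)) (d : _root_.Fin k → X.functionField),
      (∀ s, ∃ r : _root_.Fin k → Γ(X, W), s = ∑ j, r j • g j) ∧
      ∀ (y : X) (hy : y ∈ W) (j), sp H y (H.presheaf.germ W y hy (g j)) = d j • s₀ := by
  have := hH.1
  have hfin := QCohLib.finite_sections H hH.2 hW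
  obtain ⟨k, g, hg⟩ := Module.Finite.exists_fin (R := Γ(X, W)) (M := Γ(H, W))
  have hd : ∀ j, ∃ d : X.functionField, ∀ (y : X) (hy : y ∈ W),
      sp H y (H.presheaf.germ W y hy (g j)) = d • s₀ := by
    intro j
    by_cases hne : ∃ y : X, y ∈ W
    · obtain ⟨y, hy⟩ := hne
      obtain ⟨d, hd⟩ := span (H.presheaf.germ W _ (eta_mem hy) (g j))
      exact ⟨d, fun y' hy' => by rw [sp_germ]; exact hd⟩
    · exact ⟨0, fun y hy => absurd ⟨y, hy⟩ hne⟩
  choose d hd using hd
  exact ⟨k, g, d, fun s => by
    obtain ⟨r, hr⟩ := (Submodule.mem_span_range_iff_exists_fun _).mp (hg.ge (Submodule.mem_top (x := s)))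
    exact ⟨r, hr.symm⟩, fun y hy j => hd j y hy⟩

/-- The least order exists and is zero outside a locally finite set. -/
theorem exists_leastDiv (hX : Pi1.IsNormalScheme X) {H : X.Modules} (hH : Coh.IsCoh H)
    (s₀ : H.presheaf.stalk (genericPoint ↥X))
    (span : ∀ z : H.presheaf.stalk (genericPoint ↥X), ∃ c : X.functionField, z = c • s₀)
    (free : ∀ c : X.functionField, c • s₀ = 0 → c = 0) :
    ∃ D : X → ℤ, Fin D ∧ (∀ y, coheight y ≠ 1 → D y = 0) ∧
      ∀ y, coheight y = 1 → IsLeast (ordSet H s₀ y) (D y) := by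
  have := hH.1
  have hne : ∀ y, (ordSet H s₀ y).Nonempty := by
    intro y
    obtain ⟨a, m, ha, hm⟩ := exists_sp_eq_smul H y s₀
    exact ⟨_, m, _, (map_ne_zero_iff _ (algebraMap_stalk_injective y)).mpr ha, hm, rfl⟩
  have hex : ∀ y, coheight y = 1 → ∃ n, IsLeast (ordSet H s₀ y) n := by
    intro y hy1
    obtain ⟨W, hW, hyW, -⟩ := exists_isAffineOpen_mem_and_subset (X := X) (x := y) (U := ⊤) trivial
    obtain ⟨k, g, d, hg, hd⟩ := exists_gens hH span hW
    let n₀ : ℤ := -∑ j, |Scheme.ord (d j) y|
    have hn : ∀ j, Ge (fun _ => -n₀) y (d j) := fun j => Or.inr (by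
      have h1 := Finset.single_le_sum (s := Finset.univ) (f := fun j => |Scheme.ord (d j) y|)
        (fun _ _ => abs_nonneg _) (Finset.mem_univ j)
      have h2 := neg_abs_le (Scheme.ord (d j) y)
      simp only [n₀, neg_neg] at h1 ⊢
      omega)
    obtain ⟨n, hn1, hn2⟩ := Int.exists_least_of_bdd (P := fun z => z ∈ ordSet H s₀ y) ⟨n₀, fun z hz => by
      obtain ⟨m, e, he0, he, rfl⟩ := hz
      simpa using (ge_coef_of_gens hX free hW g hg hyW hy1 d (hd y hyW) n₀ hn m e he).resolve_left he0⟩
      (hne y)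
    exact ⟨n, hn1, hn2⟩
  classical
  let D : X → ℤ := fun y => if h : coheight y = 1 then (hex y h).choose else 0
  have hD : ∀ y, coheight y = 1 → IsLeast (ordSet H s₀ y) (D y) := fun y h => by
    simp only [D, dif_pos h]
    exact (hex y h).choose_spec
  refine ⟨D, fun W hW => ?_, fun y h => dif_neg h, hD⟩
  obtain ⟨k, g, d, hg, hd⟩ := exists_gens hH span hW
  refine (Set.finite_iUnion fun j : _root_.Fin k => finite_ord_ne_zero hW (d j)).subset fun y hy => ?_
  obtain ⟨hyW, hy1, hy0⟩ := hy
  by_contra hcon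
  simp only [Set.mem_iUnion, Set.mem_ofPred_eq, not_exists, not_and, not_not] at hcon
  have h0 : ∀ j, Ge (fun _ => -(0 : ℤ)) y (d j) := fun j => Or.inr (by simp [hcon j hyW hy1])
  obtain ⟨m, e, he0, he, hee⟩ := (hD y hy1).1
  have hge := (ge_coef_of_gens hX free hW g hg hyW hy1 d (hd y hyW) 0 h0 m e he).resolve_left he0
  have hle : ∃ j, d j ≠ 0 := by
    by_contra hall
    push Not at hall
    refine he0 ((ge_coef_of_gens hX free hW g hg hyW hy1 d (hd y hyW) (Scheme.ord e y + 1)
      (fun j => Or.inl (hall j)) m e he).resolve_right ?_)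
    simp
  obtain ⟨j, hj⟩ := hle
  have h1 : D y ≤ 0 := (hD y hy1).2 ⟨_, d j, hj, hd y hyW j, hcon j hyW hy1⟩
  simp at hge
  omega

/-- The dual of a coherent module of generic rank one is represented by the least orders. -/
theorem exists_rep_dual (hX : Pi1.IsNormalScheme X) {H : X.Modules} (hH : Coh.IsCoh H)
    (s₀ : H.presheaf.stalk (genericPoint ↥X))
    (span : ∀ z : H.presheaf.stalk (genericPoint ↥X), ∃ c : X.functionField, z = c • s₀)
    (free : ∀ c : X.functionField, c • s₀ = 0 → c = 0)
    (D : X → ℤ) (hD : ∀ y, coheight y = 1 → IsLeast (ordSet H s₀ y) (D y)) :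
    ∃ s', Rep (RefHull.dual H) s' D ∧
      RefHull.evalStalk H (Coh.structureModule X) (genericPoint ↥X) s' s₀ =
        one (genericPoint ↥X) := by
  have hfp := QCohLib.isCoh_iff_isFP.mp hH
  have := hH.1
  have hev := fun x => evalStalk_bijective H (Coh.structureModule X) hfp x
  have hcancel : ∀ a b : X.functionField, a • one (genericPoint ↥X) = b • one (genericPoint ↥X) → a = b :=
    fun a b h => (unit_stalk_bijective _).1 h
  choose co hco using span
  have couniq : ∀ z c, z = c • s₀ → co z = c := fun z c h =>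
    sub_eq_zero.mp (free _ (by rw [sub_smul, sub_eq_zero, ← hco z]; exact h))
  let L₀ : RefHull.StalkHom H (Coh.structureModule X) (genericPoint ↥X) :=
    { toFun := fun z => co z • one _
      map_add' := fun a b => by
        rw [couniq (a + b) (co a + co b) (by rw [add_smul, ← hco, ← hco]), add_smul]
      map_smul' := fun c z => by
        rw [RingHom.id_apply, couniq (c • z) (c * co z) (by rw [mul_smul, ← hco]), mul_smul] }
  obtain ⟨s', hs'⟩ := (hev _).2 L₀
  have hs0 : RefHull.evalStalk H (Coh.structureModule X) (genericPoint ↥X) s' s₀ =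
      one (genericPoint ↥X) := by
    rw [hs']
    change co s₀ • one (genericPoint ↥X) = _
    rw [couniq s₀ 1 (one_smul _ _).symm, one_smul]
  have det : ∀ (z : (RefHull.dual H).presheaf.stalk (genericPoint ↥X)) (c : X.functionField),
      RefHull.evalStalk H (Coh.structureModule X) (genericPoint ↥X) z s₀ = c • one (genericPoint ↥X) →
      z = c • s' := by
    intro z c h
    refine (hev _).1 (LinearMap.ext fun w => ?_)
    rw [hco w, map_smul, h, map_smul, map_smul, LinearMap.smul_apply, hs0]
  refine ⟨s', ⟨fun z => ?_, fun c hc => ?_, fun x => ?_, fun x c => ?_⟩, hs0⟩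
  · obtain ⟨c, hc⟩ := unit_stalk_exists _ (RefHull.evalStalk H (Coh.structureModule X) (genericPoint ↥X) z s₀)
    exact ⟨c, det z c hc⟩
  · have := congrArg (fun θ => RefHull.evalStalk H (Coh.structureModule X) (genericPoint ↥X) θ s₀) hc
    simp only [map_smul, LinearMap.smul_apply, hs0, map_zero, LinearMap.zero_apply] at this
    exact unit_stalk_free _ c this
  · rw [injective_iff_map_eq_zero]
    intro θ hθ
    refine (hev x).1 (LinearMap.ext fun m => ?_)
    rw [map_zero, LinearMap.zero_apply]
    refine sp_unit_injective x _ ?_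
    rw [← evalStalk_sp, hθ, map_zero, LinearMap.zero_apply]
  constructor
  · rintro ⟨θ, hθ⟩ y hyx hy1
    by_cases hc : c = 0
    · exact Or.inl hc
    obtain ⟨m, d, hd0, hm, hd⟩ := (hD y hy1).1
    have h := evalStalk_sp H (Coh.structureModule X) y
      ((RefHull.dual H).presheaf.stalkSpecializes hyx θ) m
    rw [sp_specializes, hθ, hm, map_smul, map_smul, LinearMap.smul_apply, hs0, ← mul_smul] at h
    obtain ⟨a, ha⟩ := unit_stalk_exists y
      (RefHull.evalStalk H (Coh.structureModule X) y ((RefHull.dual H).presheaf.stalkSpecializes hyx θ) m)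
    rw [ha, sp_smul, sp_one] at h
    have h' := hcancel _ _ h
    right
    have h2 := Scheme.ord_mul (x := y) hd0 hc
    rw [h'] at h2
    have h3 := ord_algebraMap_nonneg (y := y) (a := a) fun e => by
      rw [e, map_zero] at h'; exact mul_ne_zero hd0 hc h'
    omega
  · intro hlat
    have hrange : ∀ m : H.presheaf.stalk x,
        c * co (sp H x m) ∈ Set.range (algebraMap (X.presheaf.stalk x) X.functionField) := by
      intro m
      by_cases h0 : c * co (sp H x m) = 0
      · exact ⟨0, by rw [map_zero, h0]⟩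
      rw [mem_range_iff_ord hX x h0]
      intro y hyx hy1
      rw [Scheme.ord_mul (left_ne_zero_of_mul h0) (right_ne_zero_of_mul h0)]
      have h1 := (hlat y hyx hy1).resolve_left (left_ne_zero_of_mul h0)
      have h2 := (hD y hy1).2 ⟨H.presheaf.stalkSpecializes hyx m, co (sp H x m),
        right_ne_zero_of_mul h0, by rw [sp_specializes, ← hco], rfl⟩
      omega
    choose r hr using hrange
    have hinj := algebraMap_stalk_injective x
    let L : RefHull.StalkHom H (Coh.structureModule X) x :=
      { toFun := fun m => r m • one x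
        map_add' := fun a b => by
          rw [← add_smul]
          congr 1
          apply hinj
          rw [map_add, hr, hr, hr, couniq (sp H x (a + b)) (co (sp H x a) + co (sp H x b))
            (by rw [map_add, add_smul, ← hco, ← hco]), mul_add]
        map_smul' := fun a m => by
          rw [RingHom.id_apply, smul_smul]
          congr 1
          apply hinj
          rw [map_mul, hr, hr, couniq (sp H x (a • m)) (algebraMap _ _ a * co (sp H x m))
            (by rw [sp_smul, mul_smul, ← hco])]
          ring }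
    obtain ⟨θ, hθ⟩ := (hev x).2 L
    refine ⟨θ, det _ c ?_⟩
    obtain ⟨a, m, ha, hm⟩ := exists_sp_eq_smul H x s₀
    have h := evalStalk_sp H (Coh.structureModule X) x θ m
    rw [hθ, hm, map_smul] at h
    change _ = sp _ x (r m • one x) at h
    rw [sp_smul, sp_one, hr, couniq (sp H x m) _ hm, mul_comm, mul_smul] at h
    obtain ⟨e, he⟩ := unit_stalk_exists _ (RefHull.evalStalk H (Coh.structureModule X) (genericPoint ↥X)
      (sp (RefHull.dual H) x θ) s₀)
    rw [he] at h ⊢
    rw [← mul_smul, ← mul_smul] at h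
    rw [mul_left_cancel₀ ((map_ne_zero_iff _ hinj).mpr ha) (hcancel _ _ h)]

/-- The least order of a represented module is minus its divisor. -/
theorem Rep.isLeast_ordSet (hX : Pi1.IsNormalScheme X) {F : X.Modules}
    {s : F.presheaf.stalk (genericPoint ↥X)} {D : X → ℤ} (hF : Rep F s D) {y : X}
    (hy : coheight y = 1) : IsLeast (ordSet F s y) (-D y) := by
  constructor
  · obtain ⟨v, hv, hv1⟩ := exists_ord_eq hX hy (-D y)
    obtain ⟨m, hm⟩ := (hF.img y v).mpr ((inLat_iff_ge hy v).mpr (Or.inr hv1.ge))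
    exact ⟨m, v, hv, hm, hv1⟩
  · rintro n ⟨m, d, hd, hm, rfl⟩
    exact ((inLat_iff_ge hy d).mp ((hF.img y d).mp ⟨m, hm⟩)).resolve_left hd

/-- A morphism matching the rational sections of two modules with equal divisors is an isomorphism. -/
theorem Rep.isIso_of_hom {F G : X.Modules} {s : F.presheaf.stalk (genericPoint ↥X)}
    {t : G.presheaf.stalk (genericPoint ↥X)} {D D' : X → ℤ} (hF : Rep F s D) (hG : Rep G t D')
    (hD : ∀ y, coheight y = 1 → D y = D' y) (φ : F ⟶ G)
    (hφ : QCohLib.stalkHom φ (genericPoint ↥X) s = t) : IsIso φ := by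
  have key : ∀ (x : X) (m : F.presheaf.stalk x) (c : X.functionField), sp F x m = c • s → sp G x (QCohLib.stalkHom φ x m) = c • t := by
    intro x m c h
    rw [sp_stalkHom, h, ← QCohLib.stalkLinearMap_apply, map_smul, QCohLib.stalkLinearMap_apply, hφ]
  refine (QCohLib.isIso_iff_stalk_bijective φ).mpr fun x => ⟨fun a b hab => ?_, fun m' => ?_⟩
  · obtain ⟨ca, ha⟩ := hF.span (sp F x a)
    obtain ⟨cb, hb⟩ := hF.span (sp F x b)
    have h := congrArg (sp G x) hab
    rw [key x a ca ha, key x b cb hb] at h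
    exact hF.inj x (by rw [ha, hb, hG.cancel h])
  · obtain ⟨c, hc⟩ := hG.span (sp G x m')
    obtain ⟨m, hm⟩ := (hF.img x c).mpr ((InLat.congr hD).mpr ((hG.img x c).mp ⟨m', hc⟩))
    exact ⟨m, hG.inj x ((key x m c hm).trans hc.symm)⟩

end Groth.Agent.Ref1
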