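import Groth.Agent.InvBasic.OfBasis
import Groth.Agent.Ref1.Dual

/-!
# Rank one coherent reflexive modules on a normal scheme = divisors

* `Rep.isRef1`: `O(D)` is coherent, reflexive of rank one.
* `exists_rep_of_isRef1`, `exists_rep_of_section`: every such module is some `O(D)`.
* `Rep.exists_rep_ddual`: the reflexive hull of any coherent module of generic rank one.
-/

universe u

open CategoryTheory CategoryTheory.Limits AlgebraicGeometry TopologicalSpace Opposite Order

set_option backward.isDefEq.respectTransparency false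

namespace Groth.Agent.Ref1

variable {X : Scheme.{u}} [IsIntegral X] [IsLocallyNoetherian X]

omit [IsLocallyNoetherian X] in
/-- A rational function regular at all points of an open is a section there. -/
theorem exists_section_of_forall_range {W : X.Opens} {x₀ : X} (hx₀ : x₀ ∈ W) (c : X.functionField)
    (h : ∀ x ∈ W, c ∈ Set.range (algebraMap (X.presheaf.stalk x) X.functionField)) :
    ∃ r : Γ(X, W), X.presheaf.germ W (genericPoint ↥X) (eta_mem hx₀) r = c := by
  have H : ∀ x : W, ∃ (V : X.Opens) (hV : V ≤ W), x.1 ∈ V ∧ ∃ r : Γ(X, V),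
      ∀ (y : X) (hy : y ∈ V), algebraMap (X.presheaf.stalk y) X.functionField
        (X.presheaf.germ V y hy r) = c := by
    intro x
    obtain ⟨a, ha⟩ := h x.1 x.2
    obtain ⟨V, hxV, r, rfl⟩ := X.presheaf.exists_germ_eq a
    refine ⟨V ⊓ W, inf_le_right, ⟨hxV, x.2⟩, X.presheaf.map (homOfLE inf_le_left).op r, fun y hy => ?_⟩
    rw [TopCat.Presheaf.germ_res_apply, algebraMap_germ, ← algebraMap_germ hxV, ha]
  choose V hV hxV r hr using H
  obtain ⟨τ, hτ, -⟩ := TopCat.Sheaf.existsUnique_gluing' X.sheaf V W (fun x => homOfLE (hV x))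
    (fun x hx => Opens.mem_iSup.mpr ⟨⟨x, hx⟩, hxV ⟨x, hx⟩⟩) r (fun a b => by
      have hηab : genericPoint ↥X ∈ V a ⊓ V b := ⟨eta_mem (hxV a), eta_mem (hxV b)⟩
      refine germ_injective_of_isIntegral X _ hηab ?_
      change X.presheaf.germ _ _ hηab (X.presheaf.map _ (r a)) =
        X.presheaf.germ _ _ hηab (X.presheaf.map _ (r b))
      rw [TopCat.Presheaf.germ_res_apply, TopCat.Presheaf.germ_res_apply]
      have h1 := hr a (genericPoint ↥X) hηab.1
      have h2 := hr b (genericPoint ↥X) hηab.2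
      rw [algebraMap_germ] at h1 h2
      exact h1.trans h2.symm)
  refine ⟨τ, ?_⟩
  have h1 := hr ⟨x₀, hx₀⟩ x₀ (hxV _)
  rw [algebraMap_germ, ← hτ ⟨x₀, hx₀⟩] at h1
  change X.presheaf.germ _ _ _ (X.presheaf.map _ τ) = c at h1
  rwa [TopCat.Presheaf.germ_res_apply] at h1

theorem inLat_zero_iff (hX : Pi1.IsNormalScheme X) (x : X) (c : X.functionField) {D : X → ℤ}
    (hD : ∀ y, y ⤳ x → coheight y = 1 → D y = 0) :
    InLat D x c ↔ c ∈ Set.range (algebraMap (X.presheaf.stalk x) X.functionField) := by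
  by_cases hc : c = 0
  · exact ⟨fun _ => ⟨0, by rw [map_zero, hc]⟩, fun _ _ _ _ => Or.inl hc⟩
  rw [mem_range_iff_ord hX x hc]
  refine forall_congr' fun y => forall_congr' fun hyx => forall_congr' fun hy => ?_
  simp [Ge, hc, hD y hyx hy]

omit [IsIntegral X] [IsLocallyNoetherian X] in
/-- A basis restricts to the open subscheme. -/
theorem isBasis_restrict {L : X.Modules} {U V : X.Opens} {ℓ : Γ(L, V)} (h : InvBasic.IsBasis L ℓ) :
    InvBasic.IsBasis (L.restrict U.ι)
      (show Γ(L.restrict U.ι, U.ι ⁻¹ᵁ V) from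
        L.presheaf.map (homOfLE (U.ι.image_preimage_le V)).op ℓ) := by
  intro O hO
  have e : ∀ r : Γ((U : Scheme.{u}), O),
      (show Γ(L, U.ι ''ᵁ O) from r • (L.restrict U.ι).presheaf.map (homOfLE hO).op
        (show Γ(L.restrict U.ι, U.ι ⁻¹ᵁ V) from
          L.presheaf.map (homOfLE (U.ι.image_preimage_le V)).op ℓ)) =
      (show Γ(X, U.ι ''ᵁ O) from r) • L.presheaf.map
        (homOfLE ((U.ι.image_mono hO).trans (U.ι.image_preimage_le V))).op ℓ := fun r =>
    (InvBasic.restrict_smul_eq L U O r _).trans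
      (congrArg _ (QCohLib.map_map L (U.ι.image_mono hO) (U.ι.image_preimage_le V) ℓ))
  obtain ⟨hi, hs⟩ := h (U.ι ''ᵁ O) ((U.ι.image_mono hO).trans (U.ι.image_preimage_le V))
  exact ⟨fun a b hab => hi ((e a).symm.trans (hab.trans (e b))),
    fun σ => (hs σ).imp fun r hr => (e r).trans hr⟩

omit [IsIntegral X] [IsLocallyNoetherian X] in
/-- A basis on an open subscheme is a basis. -/
theorem isBasis_of_restrict {L : X.Modules} {U : X.Opens} {O : (U : Scheme.{u}).Opens}
    {l : Γ(L.restrict U.ι, O)} (h : InvBasic.IsBasis (L.restrict U.ι) l) :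
    InvBasic.IsBasis L (show Γ(L, U.ι ''ᵁ O) from l) := by
  intro W hW
  obtain ⟨W', rfl⟩ : ∃ W' : (U : Scheme.{u}).Opens, U.ι ''ᵁ W' = W := ⟨U.ι ⁻¹ᵁ W, by
    rw [Scheme.Hom.image_preimage_eq_opensRange_inf, Scheme.Opens.opensRange_ι, inf_eq_right]
    exact hW.trans (InvBasic.ι_image_le U O)⟩
  have hW' : W' ≤ O := by
    intro z hz
    obtain ⟨z', hz', e⟩ := hW ⟨z, hz, rfl⟩
    rwa [← U.ι.isOpenEmbedding.injective e]
  obtain ⟨hi, hs⟩ := h W' hW'
  have e : ∀ r : Γ((U : Scheme.{u}), W'),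
      (show Γ(X, U.ι ''ᵁ W') from r) •
        L.presheaf.map (homOfLE hW).op (show Γ(L, U.ι ''ᵁ O) from l) =
      (show Γ(L, U.ι ''ᵁ W') from r • (L.restrict U.ι).presheaf.map (homOfLE hW').op l) := fun r =>
    (InvBasic.restrict_smul_eq L U W' r _).symm
  exact ⟨fun a b hab => hi ((e a).symm.trans (hab.trans (e b))),
    fun σ => (hs σ).imp fun r hr => (e r).trans hr⟩

variable {F : X.Modules} {s : F.presheaf.stalk (genericPoint ↥X)} {D : X → ℤ}

theorem Rep.isCoh (hX : Pi1.IsNormalScheme X) (hF : Rep F s D) (hD : Fin D) : Coh.IsCoh F := by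
  obtain ⟨t, ht⟩ := rep_Sh hX hD
  obtain ⟨e⟩ := ht.exists_iso hF fun _ _ => rfl
  exact QCohLib.isCoh_of_iso e (isCoh_Sh hD)

/-- A module represented by a divisor is invertible where the divisor vanishes. -/
theorem Rep.genInvertible (hX : Pi1.IsNormalScheme X) (hF : Rep F s D) (hD : Fin D) :
    RefHull.GenInvertible F := by
  obtain ⟨U, hηU, hU⟩ := exists_open_eq_zero hD
  refine ⟨U, U.2.dense ⟨_, hηU⟩, InvBasic.isInvertible_of_isBasis fun u => ?_⟩
  obtain ⟨m, hm⟩ := (hF.img u.1 1).mpr ((inLat_zero_iff hX u.1 1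
    (fun y hy hy1 => hU y (hy.mem_open U.2 u.2) hy1)).mpr ⟨1, map_one _⟩)
  obtain ⟨V₀, huV₀, n, rfl⟩ := F.presheaf.exists_germ_eq m
  rw [one_smul, sp_germ] at hm
  let V : X.Opens := V₀ ⊓ U
  let ℓ : Γ(F, V) := F.presheaf.map (homOfLE inf_le_left).op n
  have hℓ : ∀ (h : genericPoint ↥X ∈ V), F.presheaf.germ V _ h ℓ = s := fun h => by
    rw [TopCat.Presheaf.germ_res_apply]; exact hm
  have hb : InvBasic.IsBasis F ℓ := by
    intro W hW
    refine ⟨fun r r' h => ?_, fun σ => ?_⟩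
    · by_cases hne : ∃ w, w ∈ W
      · obtain ⟨w, hw⟩ := hne
        have e := congrArg (F.presheaf.germ W (genericPoint ↥X) (eta_mem hw)) h
        dsimp only at e
        rw [QCohLib.germ_smul, QCohLib.germ_smul, TopCat.Presheaf.germ_res_apply,
          hℓ (hW (eta_mem hw))] at e
        exact germ_injective_of_isIntegral X _ (eta_mem hw) (hF.cancel e)
      · exact TopCat.Presheaf.section_ext X.sheaf W r r' fun w hw => absurd ⟨w, hw⟩ hne
    · by_cases hne : ∃ w, w ∈ W
      · obtain ⟨w, hw⟩ := hne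
        obtain ⟨c, hc⟩ := hF.span (F.presheaf.germ W _ (eta_mem hw) σ)
        obtain ⟨r, hr⟩ := exists_section_of_forall_range hw c fun x hx =>
          (inLat_zero_iff hX x c (fun y hy hy1 => hU y (hy.mem_open U.2 (hW hx).2) hy1)).mp
            ((hF.img x c).mp ⟨F.presheaf.germ W x hx σ, by rw [sp_germ, hc]⟩)
        refine ⟨r, QCohLib.section_ext _ _ fun x hx => hF.inj x ?_⟩
        rw [sp_germ, sp_germ, hc, QCohLib.germ_smul, hr, TopCat.Presheaf.germ_res_apply,
          hℓ (hW (eta_mem hx))]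
      · exact ⟨0, QCohLib.section_ext _ _ fun w hw => absurd ⟨w, hw⟩ hne⟩
  exact ⟨U.ι ⁻¹ᵁ V, ⟨huV₀, u.2⟩, _, isBasis_restrict (U := U) hb⟩

/-- The dual of a represented module. -/
theorem Rep.exists_rep_dual (hX : Pi1.IsNormalScheme X) (hF : Rep F s D) (hcoh : Coh.IsCoh F) :
    ∃ s', Rep (RefHull.dual F) s' (fun y => -D y) ∧
      RefHull.evalStalk F (Coh.structureModule X) (genericPoint ↥X) s' s = one (genericPoint ↥X) :=
  Groth.Agent.Ref1.exists_rep_dual hX hcoh s hF.span hF.free _ fun _ hy => hF.isLeast_ordSet hX hy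

omit [IsIntegral X] [IsLocallyNoetherian X] in
theorem Fin.neg {D : X → ℤ} (hD : Fin D) : Fin fun y => -D y := fun W hW => by
  simpa only [ne_eq, neg_eq_zero] using hD W hW

theorem Rep.isReflexive (hX : Pi1.IsNormalScheme X) (hF : Rep F s D) (hD : Fin D) :
    RefHull.IsReflexive F := by
  obtain ⟨s', hs', he⟩ := hF.exists_rep_dual hX (hF.isCoh hX hD)
  obtain ⟨s'', hs'', he'⟩ := hs'.exists_rep_dual hX (hs'.isCoh hX (Fin.neg hD))
  refine hF.isIso_of_hom hs'' (fun y _ => (neg_neg _).symm) _ ?_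
  refine (evalStalk_bijective _ _ (QCohLib.isCoh_iff_isFP.mp (hs'.isCoh hX (Fin.neg hD))) _).1 ?_
  refine LinearMap.ext fun z => ?_
  obtain ⟨c, rfl⟩ := hs'.span z
  rw [map_smul, map_smul, he']
  congr 1
  obtain ⟨U, hU, σ, rfl⟩ := F.presheaf.exists_germ_eq s
  rw [QCohLib.stalkHom_germ, RefHull.evalStalk_germ, RefHull.bidualMap_app_apply, RefHull.bidualAt_apply,
    he]

theorem Rep.isRef1 (hX : Pi1.IsNormalScheme X) (hF : Rep F s D) (hD : Fin D) : RefHull.IsRef1 F :=
  ⟨hF.isCoh hX hD, hF.isReflexive hX hD, hF.genInvertible hX hD⟩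

omit [IsLocallyNoetherian X] in
theorem exists_generator_eta (h : RefHull.GenInvertible F) :
    ∃ t : F.presheaf.stalk (genericPoint ↥X),
      Function.Bijective fun c : X.presheaf.stalk (genericPoint ↥X) => c • t := by
  obtain ⟨U, hU, hinv⟩ := h
  obtain ⟨w, hw⟩ := hU.nonempty
  obtain ⟨O, hwO, l, hl⟩ := InvBasic.exists_isBasis hinv ⟨w, hw⟩
  have hb := isBasis_of_restrict hl
  have hη : genericPoint ↥X ∈ U.ι ''ᵁ O := eta_mem (x := w) ⟨⟨w, hw⟩, hwO, rfl⟩
  exact ⟨_, hb.stalk_bijective hη⟩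

/-- Every rank one coherent reflexive module is represented by a divisor. -/
theorem exists_rep_of_isRef1 (hX : Pi1.IsNormalScheme X) (hF : RefHull.IsRef1 F) :
    ∃ (t : F.presheaf.stalk (genericPoint ↥X)) (D : X → ℤ),
      Fin D ∧ (∀ y, coheight y ≠ 1 → D y = 0) ∧ Rep F t D := by
  obtain ⟨hc, href, hgen⟩ := hF
  obtain ⟨s₀, hb⟩ := exists_generator_eta hgen
  have span : ∀ z, ∃ c : X.functionField, z = c • s₀ := fun z => (hb.2 z).imp fun _ h => h.symm
  have free : ∀ c : X.functionField, c • s₀ = 0 → c = 0 := fun c h =>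
    hb.1 (h.trans (zero_smul _ _).symm)
  obtain ⟨D', hD', hD'0, hmin⟩ := exists_leastDiv hX hc s₀ span free
  obtain ⟨s', hs', -⟩ := Groth.Agent.Ref1.exists_rep_dual hX hc s₀ span free D' hmin
  obtain ⟨s'', hs'', -⟩ := hs'.exists_rep_dual hX (hs'.isCoh hX hD')
  have : IsIso (RefHull.bidualMap F) := href
  exact ⟨_, fun y => -D' y, Fin.neg hD', fun y h => by simp [hD'0 y h],
    hs''.transport (asIso (RefHull.bidualMap F)).symm⟩

/-- The divisor of a nonzero rational section of a rank one coherent reflexive module. -/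
theorem exists_rep_of_section (hX : Pi1.IsNormalScheme X) (hF : RefHull.IsRef1 F)
    (s : Cyc.secFibre F (genericPoint ↥X)) (hs : s ≠ 0) :
    ∃ (t : F.presheaf.stalk (genericPoint ↥X)) (D : X → ℤ),
      Submodule.Quotient.mk t = s ∧ Fin D ∧ (∀ y, coheight y ≠ 1 → D y = 0) ∧ Rep F t D ∧
      ∀ (x : X) (h : genericPoint ↥X ⤳ x), coheight x = 1 →
        Cyc.secOrdAt F (genericPoint ↥X) x h s = D x := by
  obtain ⟨t₀, D₀, hfin, h0, hR⟩ := exists_rep_of_isRef1 hX hF
  obtain ⟨t, rfl⟩ := Submodule.Quotient.mk_surjective _ s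
  obtain ⟨c, rfl⟩ := hR.span t
  have hc : c ≠ 0 := fun e => hs (by rw [e, zero_smul]; rfl)
  refine ⟨c • t₀, fun y => D₀ y + Scheme.ord c y, rfl, fun W hW => ?_, fun y h => ?_, hR.rescale hc,
    fun x h hx => ?_⟩
  · refine ((hfin W hW).union (finite_ord_ne_zero hW c)).subset fun y hy => ?_
    by_contra hh
    simp only [Set.mem_union, Set.mem_ofPred_eq, not_or, not_and, not_not] at hh
    exact hy.2.2 (by beta_reduce; rw [hh.1 hy.1 hy.2.1, hh.2 hy.1 hy.2.1]; rfl)
  · beta_reduce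
    rw [h0 y h, Scheme.ord_eq_zero_of_coheight_neq_one h, add_zero]
  · rw [hR.secOrdAt_eq hX hc hx h]
    ring

theorem Rep.secOrdAt_self (hX : Pi1.IsNormalScheme X) (hF : Rep F s D) {x : X} (hx : coheight x = 1)
    (h : genericPoint ↥X ⤳ x) :
    Cyc.secOrdAt F (genericPoint ↥X) x h (Submodule.Quotient.mk s) = D x := by
  have e := hF.secOrdAt_eq hX one_ne_zero hx h
  rwa [one_smul, ord_one, zero_add] at e

theorem Rep.mk_ne_zero (hF : Rep F s D) :
    (Submodule.Quotient.mk s : Cyc.secFibre F (genericPoint ↥X)) ≠ 0 := by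
  intro h
  have h' : s = 0 := (secFibre_mk_bijective F).1 (h.trans (Submodule.Quotient.mk_zero _).symm)
  exact one_ne_zero (hF.free 1 (by rw [h', smul_zero]))

end Groth.Agent.Ref1
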